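import Mathlib

/-!
# Permutations induced on the points of a tuple, and Gleason's lemma

`induced G t` is the group of permutations of the indices induced on the entries of the tuple `t`.
-/

set_option autoImplicit false

namespace CfsgLib.Perm.SetStab

open MulAction

variable {α : Type*} {k : ℕ}

/-- The permutations of the indices induced by `G` on the entries of a tuple. -/
def induced (G : Subgroup (Equiv.Perm α)) (t : Fin k ↪ α) : Subgroup (Equiv.Perm (Fin k)) where
  carrier := {σ | ∃ g ∈ G, ∀ i, g (t i) = t (σ i)}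
  one_mem' := ⟨1, one_mem G, fun _ => rfl⟩
  mul_mem' := fun {σ τ} ⟨g, hg, hgt⟩ ⟨f, hf, hft⟩ => ⟨g * f, mul_mem hg hf, fun i => by
    rw [Equiv.Perm.mul_apply, hft, hgt]; rfl⟩
  inv_mem' := fun {σ} ⟨g, hg, hgt⟩ => ⟨g⁻¹, inv_mem hg, fun i => by
    rw [Equiv.Perm.inv_eq_iff_eq, hgt, Equiv.Perm.coe_inv, Equiv.apply_symm_apply]⟩

theorem mem_induced {G : Subgroup (Equiv.Perm α)} {t : Fin k ↪ α} {σ : Equiv.Perm (Fin k)} :
    σ ∈ induced G t ↔ ∃ g ∈ G, ∀ i, g (t i) = t (σ i) := Iff.rfl

/-- Disjointness of transpositions connects all of them once there are five indices. -/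
theorem swap_mem_of_disjoint_step (h5 : 5 ≤ k) (M : Subgroup (Equiv.Perm (Fin k)))
    (hstep : ∀ i j l m : Fin k, i ≠ j → l ≠ m → i ≠ l → i ≠ m → j ≠ l → j ≠ m →
      Equiv.swap i j ∈ M → Equiv.swap l m ∈ M)
    {i j : Fin k} (hij : i ≠ j) (h : Equiv.swap i j ∈ M) : M = ⊤ := by
  classical
  rw [eq_top_iff, ← Equiv.Perm.closure_isSwap, Subgroup.closure_le]
  rintro σ ⟨l, m, hlm, rfl⟩
  show Equiv.swap l m ∈ M
  by_cases hd : i ≠ l ∧ i ≠ m ∧ j ≠ l ∧ j ≠ m
  · exact hstep i j l m hij hlm hd.1 hd.2.1 hd.2.2.1 hd.2.2.2 h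
  -- a pair disjoint from both
  have hcard : ({i, j, l, m} : Finset (Fin k)).card ≤ 3 := by
    rw [not_and_or, not_and_or, not_and_or] at hd
    simp only [ne_eq, not_not] at hd
    rcases hd with rfl | rfl | rfl | rfl
    · exact (Finset.card_le_card (show ({i, j, i, m} : Finset (Fin k)) ⊆ {i, j, m} from fun x hx => by
        simp only [Finset.mem_insert, Finset.mem_singleton] at hx ⊢; tauto)).trans Finset.card_le_three
    · exact (Finset.card_le_card (show ({i, j, l, i} : Finset (Fin k)) ⊆ {i, j, l} from fun x hx => by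
        simp only [Finset.mem_insert, Finset.mem_singleton] at hx ⊢; tauto)).trans Finset.card_le_three
    · exact (Finset.card_le_card (show ({i, j, j, m} : Finset (Fin k)) ⊆ {i, j, m} from fun x hx => by
        simp only [Finset.mem_insert, Finset.mem_singleton] at hx ⊢; tauto)).trans Finset.card_le_three
    · exact (Finset.card_le_card (show ({i, j, l, j} : Finset (Fin k)) ⊆ {i, j, l} from fun x hx => by
        simp only [Finset.mem_insert, Finset.mem_singleton] at hx ⊢; tauto)).trans Finset.card_le_three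
  have h2 : 1 < ({i, j, l, m} : Finset (Fin k))ᶜ.card := by
    rw [Finset.card_compl, Fintype.card_fin]
    omega
  obtain ⟨a, ha, b, hb, hab⟩ := Finset.one_lt_card.mp h2
  simp only [Finset.mem_compl, Finset.mem_insert, Finset.mem_singleton, not_or] at ha hb
  have h1 : Equiv.swap a b ∈ M :=
    hstep i j a b hij hab (Ne.symm ha.1) (Ne.symm hb.1) (Ne.symm ha.2.1) (Ne.symm hb.2.1) h
  exact hstep a b l m hab hlm ha.2.2.1 ha.2.2.2 hb.2.2.1 hb.2.2.2 h1

/-- A group of permutations of the indices with at most two cosets contains the even ones. -/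
theorem alternating_le_of_three (M : Subgroup (Equiv.Perm (Fin k)))
    (h : ∀ a b c : Equiv.Perm (Fin k), b * a⁻¹ ∈ M ∨ c * a⁻¹ ∈ M ∨ c * b⁻¹ ∈ M) :
    alternatingGroup (Fin k) ≤ M := by
  rw [← Equiv.Perm.closure_three_cycles_eq_alternating, Subgroup.closure_le]
  intro σ hσ
  have h3 : σ ^ 3 = 1 := by rw [← hσ.orderOf, pow_orderOf_eq_one]
  rcases h 1 σ (σ ^ 2) with e | e | e
  · simpa using e
  · have e' := pow_mem (show σ ^ 2 ∈ M by simpa using e) 2
    rwa [← pow_mul, show 2 * 2 = 3 + 1 by rfl, pow_add, h3, one_mul, pow_one] at e'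
  · rwa [pow_two, mul_inv_cancel_right] at e

section Gleason

variable {G Y : Type*} [Group G] [MulAction G Y] {r : ℕ} [Fact r.Prime]

/-- Gleason's lemma. -/
theorem gleason [Finite Y] (h : ∀ y : Y, ∃ R : Subgroup G, IsPGroup r R ∧
    ∀ z : Y, (∀ g ∈ R, g • z = z) ↔ z = y) (x y : Y) : ∃ g : G, g • x = y := by
  by_contra hne
  push Not at hne
  have hy : y ∉ orbit G x := fun ⟨g, hg⟩ => hne g hg
  have key : ∀ w : Y, ∀ R : Subgroup G, IsPGroup r R → (∀ z : Y, (∀ g ∈ R, g • z = z) ↔ z = w) →
      Nat.card (orbit G x) ≡ Nat.card {z : Y // z ∈ orbit G x ∧ z = w} [MOD r] := by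
    intro w R hR hw
    letI : MulAction R (orbit G x) := MulAction.compHom _ R.subtype
    refine (hR.card_modEq_card_fixedPoints (orbit G x)).trans (?_)
    refine congrArg (· % r) (Nat.card_congr
      { toFun := fun z => ⟨z.1.1, z.1.2, (hw _).mp fun g hg => congrArg Subtype.val (z.2 ⟨g, hg⟩)⟩
        invFun := fun z => ⟨⟨z.1, z.2.1⟩, fun g => Subtype.ext ((hw _).mpr z.2.2 g g.2)⟩
        left_inv := fun _ => rfl
        right_inv := fun _ => rfl })
  obtain ⟨R₁, hR₁, hw₁⟩ := h x
  obtain ⟨R₂, hR₂, hw₂⟩ := h y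
  have h1 := key x R₁ hR₁ hw₁
  have h2 := key y R₂ hR₂ hw₂
  rw [show Nat.card {z : Y // z ∈ orbit G x ∧ z = x} = 1 from Nat.card_eq_one_iff_unique.mpr
    ⟨⟨fun u v => Subtype.ext (u.2.2.trans v.2.2.symm)⟩, ⟨⟨x, mem_orbit_self x, rfl⟩⟩⟩] at h1
  haveI : IsEmpty {z : Y // z ∈ orbit G x ∧ z = y} := ⟨fun u => hy (u.2.2 ▸ u.2.1)⟩
  rw [show Nat.card {z : Y // z ∈ orbit G x ∧ z = y} = 0 from Nat.card_of_isEmpty] at h2
  exact absurd ((Nat.modEq_zero_iff_dvd).mp (h1.symm.trans h2))
    (fun hd => (Fact.out : r.Prime).one_lt.ne' (Nat.dvd_one.mp hd))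

end Gleason

section Tuples

variable {G Ω : Type*} [Group G] [MulAction G Ω] [Fintype Ω]

/-- If one entry of a tuple can always be moved arbitrarily, and there is room, then the group is
multiply transitive. -/
theorem multiply_transitive_of_single (hk : k < Fintype.card Ω)
    (h : ∀ (u : Fin k ↪ Ω) (i : Fin k) (y : Ω), y ∉ Set.range u →
      ∃ g : G, g • u i = y ∧ ∀ j, j ≠ i → g • u j = u j) :
    IsMultiplyPretransitive G Ω k := by
  classical
  refine ⟨fun u v => ?_⟩
  suffices key : ∀ (d : ℕ) (u : Fin k ↪ Ω),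
      (Finset.univ.filter fun i => u i ≠ v i).card * 2 +
        (Finset.univ.filter fun i => u i ≠ v i ∧ v i ∈ Set.range u).card = d →
      ∃ g : G, g • u = v from key _ u rfl
  intro d
  induction d using Nat.strong_induction_on with
  | _ d IH =>
    intro u hd
    by_cases hdone : ∀ i, u i = v i
    · exact ⟨1, by rw [one_smul]; exact Function.Embedding.ext hdone⟩
    push Not at hdone
    by_cases hfree : ∃ i, u i ≠ v i ∧ v i ∉ Set.range u
    · obtain ⟨i, hi, hiv⟩ := hfree
      obtain ⟨g, hg, hgj⟩ := h u i (v i) hiv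
      have hgu : ∀ j, (g • u) j = if j = i then v i else u j := fun j => by
        rw [Function.Embedding.smul_apply]
        split_ifs with hj
        · rw [hj, hg]
        · exact hgj j hj
      have hlt : (Finset.univ.filter fun j => (g • u) j ≠ v j).card * 2 +
          (Finset.univ.filter fun j => (g • u) j ≠ v j ∧ v j ∈ Set.range (g • u : Fin k ↪ Ω)).card < d := by
        have h1 : (Finset.univ.filter fun j => (g • u) j ≠ v j) =
            (Finset.univ.filter fun j => u j ≠ v j).erase i := by
          ext j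
          simp only [Finset.mem_filter, Finset.mem_univ, true_and, Finset.mem_erase, hgu]
          by_cases hj : j = i
          · subst hj; simp
          · simp [hj]
        have h2 : (Finset.univ.filter fun j => (g • u) j ≠ v j ∧ v j ∈ Set.range (g • u : Fin k ↪ Ω)) ⊆
            Finset.univ.filter fun j => u j ≠ v j ∧ v j ∈ Set.range u := by
          intro j hj
          simp only [Finset.mem_filter, Finset.mem_univ, true_and] at hj ⊢
          obtain ⟨hj1, l, hl⟩ := hj
          have hji : j ≠ i := fun e => hj1 (by rw [hgu, if_pos e, e])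
          rw [hgu, if_neg hji] at hj1
          refine ⟨hj1, l, ?_⟩
          rw [hgu] at hl
          split_ifs at hl with hli
          · exact absurd (v.injective hl) (Ne.symm hji)
          · exact hl
        have h3 : i ∈ Finset.univ.filter fun j => u j ≠ v j := by simp [hi]
        rw [h1, Finset.card_erase_of_mem h3]
        have := Finset.card_le_card h2
        have := Finset.card_pos.mpr ⟨i, h3⟩
        omega
      obtain ⟨f, hf⟩ := IH _ hlt (g • u) rfl
      exact ⟨f * g, by rw [mul_smul, hf]⟩
    · push Not at hfree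
      obtain ⟨i, hi⟩ := hdone
      obtain ⟨l, hl⟩ := hfree i hi
      have hl' : u l ≠ v l := fun e => hi (by
        rw [v.injective (hl.symm.trans e : v i = v l)]; exact e)
      obtain ⟨z, hz⟩ : ∃ z, z ∉ Finset.univ.map u := by
        by_contra hall
        push Not at hall
        have := Finset.card_le_card (fun z (_ : z ∈ (Finset.univ : Finset Ω)) => hall z)
        rw [Finset.card_univ, Finset.card_map, Finset.card_univ, Fintype.card_fin] at this
        omega
      have hz' : z ∉ Set.range u := fun ⟨j, hj⟩ => hz (Finset.mem_map.mpr ⟨j, Finset.mem_univ j, hj⟩)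
      obtain ⟨g, hg, hgj⟩ := h u l z hz'
      have hgu : ∀ j, (g • u) j = if j = l then z else u j := fun j => by
        rw [Function.Embedding.smul_apply]
        split_ifs with hj
        · rw [hj, hg]
        · exact hgj j hj
      have hlt : (Finset.univ.filter fun j => (g • u) j ≠ v j).card * 2 +
          (Finset.univ.filter fun j => (g • u) j ≠ v j ∧ v j ∈ Set.range (g • u : Fin k ↪ Ω)).card < d := by
        have h1 : (Finset.univ.filter fun j => (g • u) j ≠ v j) ⊆
            (Finset.univ.filter fun j => u j ≠ v j) := by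
          intro j hj
          simp only [Finset.mem_filter, Finset.mem_univ, true_and] at hj ⊢
          rcases eq_or_ne j l with rfl | hjl
          · exact hl'
          · rwa [hgu, if_neg hjl] at hj
        have h2 : (Finset.univ.filter fun j => (g • u) j ≠ v j ∧ v j ∈ Set.range (g • u : Fin k ↪ Ω)) ⊆
            (Finset.univ.filter fun j => u j ≠ v j ∧ v j ∈ Set.range u).erase i := by
          intro j hj
          simp only [Finset.mem_filter, Finset.mem_univ, true_and, Finset.mem_erase] at hj ⊢
          obtain ⟨hj1, w, hw⟩ := hj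
          have hjv : u j ≠ v j := by
            rcases eq_or_ne j l with rfl | hjl
            · exact hl'
            · rwa [hgu, if_neg hjl] at hj1
          refine ⟨?_, hjv, hfree j hjv⟩
          rintro rfl
          rw [hgu] at hw
          split_ifs at hw with hwl
          · exact hz' ⟨l, hl.trans hw.symm⟩
          · exact hwl (u.injective (hw.trans hl.symm))
        have h3 : i ∈ Finset.univ.filter fun j => u j ≠ v j ∧ v j ∈ Set.range u :=
          Finset.mem_filter.mpr ⟨Finset.mem_univ i, hi, l, hl⟩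
        have := Finset.card_le_card h1
        have := Finset.card_le_card h2
        have := Finset.card_erase_of_mem h3
        have := Finset.card_pos.mpr ⟨i, h3⟩
        omega
      obtain ⟨f, hf⟩ := IH _ hlt (g • u) rfl
      exact ⟨f * g, by rw [mul_smul, hf]⟩

end Tuples

end CfsgLib.Perm.SetStab
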