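import Cfsg.Agent.Lib.Perm.SetStab.Main
import Cfsg.Agent.Lib.Coprime.Generation

/-!
# Homogeneous groups: the groups induced on sets of one more point than the degree of transitivity

If every set of `j + 1` points carries only even permutations and the group is `j`-transitive with
`j ≥ 4`, the degree is at most `j + 2`.
-/

set_option autoImplicit false

namespace CfsgLib.Perm.SetStab

open MulAction

variable {α : Type*} [Fintype α] [DecidableEq α] {G : Subgroup (Equiv.Perm α)} {j : ℕ}

/-- No permutation induced on `j` points is odd. -/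
def NoOdd (G : Subgroup (Equiv.Perm α)) (j : ℕ) : Prop :=
  ∀ t : Fin j ↪ α, induced G t ≤ alternatingGroup (Fin j)

/-- An invariant set of pairs of an involution. -/
theorem exists_pairs {g : Equiv.Perm α} (hg : g * g = 1) :
    ∀ N : ℕ, 2 * N ≤ g.support.card →
      ∃ P : Finset α, P ⊆ g.support ∧ P.card = 2 * N ∧ ∀ x ∈ P, g x ∈ P := by
  have hgg : ∀ x, g (g x) = x := fun x => by rw [← Equiv.Perm.mul_apply, hg]; rfl
  intro N
  induction N with
  | zero => exact fun _ => ⟨∅, Finset.empty_subset _, rfl, fun x hx => absurd hx (Finset.notMem_empty x)⟩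
  | succ N ih =>
    intro hN
    obtain ⟨P, hPs, hPc, hPinv⟩ := ih (by omega)
    obtain ⟨x, hxs, hxP⟩ := Finset.exists_mem_notMem_of_card_lt_card (s := P) (t := g.support) (by omega)
    have hne : g x ≠ x := Equiv.Perm.mem_support.mp hxs
    have hgxP : g x ∉ P := fun h => hxP (by have := hPinv _ h; rwa [hgg] at this)
    refine ⟨insert x (insert (g x) P), ?_, ?_, ?_⟩
    · refine Finset.insert_subset hxs (Finset.insert_subset ?_ hPs)
      exact Equiv.Perm.mem_support.mpr fun h => hne (g.injective h)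
    · rw [Finset.card_insert_of_notMem, Finset.card_insert_of_notMem hgxP, hPc]
      · omega
      · rw [Finset.mem_insert]; exact fun h => h.elim (fun e => hne e.symm) hxP
    · intro y hy
      simp only [Finset.mem_insert] at hy ⊢
      rcases hy with rfl | rfl | hy
      · exact Or.inr (Or.inl rfl)
      · exact Or.inl (hgg x)
      · exact Or.inr (Or.inr (hPinv y hy))

/-- An involution cannot induce an odd number of transpositions on `j` points. -/
theorem no_odd_pairs (hno : NoOdd G j) {g : Equiv.Perm α} (hg : g ∈ G) (hg2 : g * g = 1) {r N : ℕ}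
    (hr : r ≤ (fixSet g).card) (hN : 2 * N ≤ g.support.card) (hrN : r + 2 * N = j) (hodd : Odd N) :
    False := by
  obtain ⟨F, hFs, hFc⟩ := Finset.exists_subset_card_eq hr
  obtain ⟨P, hPs, hPc, hPinv⟩ := exists_pairs hg2 N hN
  have hdis : Disjoint F P := Finset.disjoint_left.mpr fun x hx hx' =>
    Equiv.Perm.mem_support.mp (hPs hx') (mem_fixSet.mp (hFs hx))
  set s := F ∪ P with hs
  have hsc : s.card = j := by rw [hs, Finset.card_union_of_disjoint hdis, hFc, hPc, hrN]
  have hsinv : ∀ x ∈ s, g x ∈ s := fun x hx => by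
    rcases Finset.mem_union.mp hx with h | h
    · rw [mem_fixSet.mp (hFs h)]; exact hx
    · exact Finset.mem_union_right _ (hPinv x h)
  let e : Fin j ≃ s := (s.equivFinOfCardEq hsc).symm
  let t : Fin j ↪ α := e.toEmbedding.trans (Function.Embedding.subtype _)
  have hgg : ∀ x, g (g x) = x := fun x => by rw [← Equiv.Perm.mul_apply, hg2]; rfl
  let τ : Equiv.Perm s :=
    { toFun := fun x => ⟨g x, hsinv x x.2⟩
      invFun := fun x => ⟨g x, hsinv x x.2⟩
      left_inv := fun x => Subtype.ext (hgg x)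
      right_inv := fun x => Subtype.ext (hgg x) }
  have hmem : e.symm.permCongr τ ∈ induced G t := mem_induced.mpr ⟨g, hg, fun i => by
    exact (congrArg (fun w : s => (w : α)) (e.apply_symm_apply (τ (e i)))).symm⟩
  have h := Equiv.Perm.mem_alternatingGroup.mp (hno t hmem)
  rw [Equiv.Perm.sign_permCongr] at h
  have hτ2 : τ ^ 2 = 1 := by
    rw [pow_two]; exact Equiv.ext fun x => Subtype.ext (hgg x)
  rw [Equiv.Perm.sign_of_pow_two_eq_one hτ2] at h
  have hfix : Fintype.card (Function.fixedPoints τ) = r := by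
    rw [← hFc, ← Nat.card_eq_fintype_card, ← Nat.card_eq_finsetCard]
    refine Nat.card_congr
      { toFun := fun x => ⟨x.1, ?_⟩
        invFun := fun x => ⟨⟨x, Finset.mem_union_left _ x.2⟩, Subtype.ext (mem_fixSet.mp (hFs x.2))⟩
        left_inv := fun x => rfl
        right_inv := fun x => rfl }
    rcases Finset.mem_union.mp x.1.2 with h' | h'
    · exact h'
    · exact absurd (congrArg Subtype.val x.2) (Equiv.Perm.mem_support.mp (hPs h'))
  rw [hfix, Fintype.card_coe, hsc, show (j - r) / 2 = N by omega, hodd.neg_one_pow] at h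
  exact absurd h (by decide)

omit [Fintype α] [DecidableEq α] in
/-- A lift of a transposition fixes no further point. -/
theorem not_fix_of_swap (hno : NoOdd G (j + 1)) [Fintype α] [DecidableEq α] {g : Equiv.Perm α}
    (hg : g ∈ G) (u : Fin j ↪ α) {a b : Fin j} (hab : a ≠ b)
    (hgu : ∀ i, g (u i) = u (Equiv.swap a b i)) {p : α} (hp : p ∉ Set.range u) : g p ≠ p := by
  intro hgp
  let t : Fin (j + 1) ↪ α := ⟨Fin.snoc u p, Fin.snoc_injective_iff.mpr ⟨u.injective, hp⟩⟩
  have hmem : Equiv.swap a.castSucc b.castSucc ∈ induced G t := mem_induced.mpr ⟨g, hg, fun i => by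
    show g (Fin.snoc (α := fun _ => α) u p i) =
      Fin.snoc (α := fun _ => α) u p (Equiv.swap a.castSucc b.castSucc i)
    induction i using Fin.lastCases with
    | last =>
      rw [Equiv.swap_apply_of_ne_of_ne (Fin.castSucc_lt_last a).ne' (Fin.castSucc_lt_last b).ne',
        Fin.snoc_last]
      exact hgp
    | cast i =>
      rw [(Fin.castSucc_injective j).swap_apply, Fin.snoc_castSucc, Fin.snoc_castSucc]
      exact hgu i⟩
  have h := Equiv.Perm.mem_alternatingGroup.mp (hno t hmem)
  rw [Equiv.Perm.sign_swap (fun e => hab (Fin.castSucc_injective j e))] at h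
  exact absurd h (by decide)

/-- The pointwise stabilisers have odd order and involutions fix few points. -/
theorem fix_lt_of_noOdd (hj : 1 ≤ j) (hno : NoOdd G (j + 1)) {g : Equiv.Perm α} (hg : g ∈ G)
    (hg2 : g * g = 1) (hg1 : g ≠ 1) : (fixSet g).card < j - 1 := by
  by_contra h
  push Not at h
  refine no_odd_pairs hno hg hg2 (r := j - 1) (N := 1) h ?_ (by omega) odd_one
  rcases Nat.eq_zero_or_pos g.support.card with h0 | h0
  · exact absurd (Equiv.Perm.support_eq_empty_iff.mp (Finset.card_eq_zero.mp h0)) hg1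
  · have h2 : 2 ∣ g.support.card := Equiv.Perm.two_dvd_card_support (by rw [pow_two, hg2])
    omega

theorem odd_ptStab_of_noOdd (hj : 1 ≤ j) (hno : NoOdd G (j + 1)) (u : Fin j ↪ α) :
    Odd (Nat.card (ptStab G u)) := by
  rw [← Nat.not_even_iff_odd, even_iff_two_dvd]
  intro h
  haveI : Fact (Nat.Prime 2) := ⟨Nat.prime_two⟩
  obtain ⟨z, hz⟩ := exists_prime_orderOf_dvd_card' (G := ptStab G u) 2 h
  have hz1 : (z : Equiv.Perm α) ≠ 1 := fun e => by
    rw [← Subgroup.orderOf_coe, e, orderOf_one] at hz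
    omega
  have hz2 : (z : Equiv.Perm α) * z = 1 := by
    rw [← pow_two, ← hz, ← Subgroup.orderOf_coe, pow_orderOf_eq_one]
  obtain ⟨hzG, hzu⟩ := mem_ptStab.mp z.2
  have hsub : (Finset.univ.map u) ⊆ fixSet (z : Equiv.Perm α) := fun x hx => by
    obtain ⟨i, -, rfl⟩ := Finset.mem_map.mp hx
    exact mem_fixSet.mpr (hzu i)
  have h1 := Finset.card_le_card hsub
  rw [Finset.card_map, Finset.card_univ, Fintype.card_fin] at h1
  have := fix_lt_of_noOdd hj hno hzG hz2 hz1
  omega

/-- Four points: the pointwise stabiliser is trivial. -/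
theorem ptStab_four (hG : IsMultiplyPretransitive G α 4) (hno : NoOdd G 5)
    (halt : ∀ t : Fin 5 ↪ α, alternatingGroup (Fin 5) ≤ induced G t) (u : Fin 4 ↪ α) :
    ptStab G u = ⊥ := by
  have hodd := odd_ptStab_of_noOdd (j := 4) (by norm_num) hno u
  rw [Subgroup.eq_bot_iff_forall]
  intro x hx
  suffices h : ∀ p, p ∉ Set.range u → ∀ y ∈ ptStab G u, y p = p by
    refine Equiv.ext fun p => ?_
    by_cases hp : p ∈ Set.range u
    · obtain ⟨i, rfl⟩ := hp
      exact (mem_ptStab.mp hx).2 i
    · exact h p hp x hx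
  intro p hp
  -- the elements fixing `p` and permuting the four points
  let K : Subgroup (Equiv.Perm α) :=
    { carrier := {g | g ∈ G ∧ g p = p ∧ ∃ σ : Equiv.Perm (Fin 4), ∀ i, g (u i) = u (σ i)}
      one_mem' := ⟨one_mem G, rfl, 1, fun _ => rfl⟩
      mul_mem' := fun {g f} ⟨hg, hgp, σ, hσ⟩ ⟨hf, hfp, τ, hτ⟩ =>
        ⟨mul_mem hg hf, by rw [Equiv.Perm.mul_apply, hfp, hgp], σ * τ, fun i => by
          rw [Equiv.Perm.mul_apply, hτ, hσ]; rfl⟩
      inv_mem' := fun {g} ⟨hg, hgp, σ, hσ⟩ =>
        ⟨inv_mem hg, by rw [Equiv.Perm.inv_eq_iff_eq, hgp], σ⁻¹, fun i => by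
          rw [Equiv.Perm.inv_eq_iff_eq, hσ, Equiv.Perm.coe_inv, Equiv.apply_symm_apply]⟩ }
  have hKσ : ∀ g : K, ∃ σ : Equiv.Perm (Fin 4), ∀ i, (g : Equiv.Perm α) (u i) = u (σ i) :=
    fun g => g.2.2.2
  choose π hπ using hKσ
  let πHom : K →* Equiv.Perm (Fin 4) := MonoidHom.mk' π fun g f => Equiv.ext fun i => u.injective (by
    rw [← hπ, Equiv.Perm.mul_apply, Subgroup.coe_mul, Equiv.Perm.mul_apply, hπ, hπ])
  haveI : Fact (Nat.Prime 2) := ⟨Nat.prime_two⟩
  have hker : ∀ g : K, πHom g = 1 → (g : Equiv.Perm α) ∈ ptStab G u := fun g hg =>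
    mem_ptStab.mpr ⟨g.2.1, fun i => by rw [hπ, show π g = 1 from hg]; rfl⟩
  obtain ⟨P⟩ : Nonempty (Sylow 2 K) := inferInstance
  have hPinj : ∀ g ∈ (P : Subgroup K), πHom g = 1 → g = 1 := by
    intro g hg h
    obtain ⟨e, he⟩ := P.2 ⟨g, hg⟩
    have he' : (g : Equiv.Perm α) ^ 2 ^ e = 1 := by
      have := congrArg (fun w : (P : Subgroup K) => ((w : K) : Equiv.Perm α)) he
      simpa using this
    have h1 : orderOf (g : Equiv.Perm α) ∣ Nat.card (ptStab G u) :=
      Subgroup.orderOf_dvd_natCard _ (hker g h)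
    have h2 := Nat.dvd_gcd h1 (orderOf_dvd_of_pow_eq_one he')
    rw [Nat.Coprime.gcd_eq_one ((Nat.coprime_two_right.mpr hodd).pow_right e), Nat.dvd_one,
      orderOf_eq_one_iff] at h2
    exact Subtype.ext h2
  -- the image is large
  let t : Fin 5 ↪ α := ⟨Fin.snoc u p, Fin.snoc_injective_iff.mpr ⟨u.injective, hp⟩⟩
  have htc : ∀ i : Fin 4, t i.castSucc = u i := fun i => Fin.snoc_castSucc (α := fun _ => α) p u i
  have htl : t (Fin.last 4) = p := Fin.snoc_last (α := fun _ => α) p u
  have hlift : ∀ σ : Equiv.Perm (Fin 4), σ ∈ alternatingGroup (Fin 4) → σ ∈ πHom.range := by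
    intro σ hσ
    have he : Equiv.Perm.extendDomain σ (Fin.castSuccEmb.toEquivRange) ∈ alternatingGroup (Fin 5) := by
      rw [Equiv.Perm.mem_alternatingGroup, Equiv.Perm.sign_extendDomain]
      exact Equiv.Perm.mem_alternatingGroup.mp hσ
    obtain ⟨g, hg, hgt⟩ := mem_induced.mp (halt t he)
    have hl : Equiv.Perm.extendDomain σ (Fin.castSuccEmb.toEquivRange) (Fin.last 4) = Fin.last 4 :=
      Equiv.Perm.extendDomain_apply_not_subtype _ _ (by rintro ⟨i, hi⟩; exact Fin.castSucc_ne_last i hi)
    have hc : ∀ i : Fin 4, Equiv.Perm.extendDomain σ (Fin.castSuccEmb.toEquivRange) i.castSucc =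
        (σ i).castSucc := fun i =>
      Equiv.Perm.extendDomain_apply_image σ Fin.castSuccEmb.toEquivRange i
    have hgu : ∀ i, g (u i) = u (σ i) := fun i => by rw [← htc, hgt, hc, htc]
    refine ⟨⟨g, hg, by rw [← htl, hgt, hl], σ, hgu⟩, Equiv.ext fun i => u.injective ?_⟩
    show u (π _ i) = u (σ i)
    rw [← hπ]
    exact hgu i
  have hA : πHom.range = alternatingGroup (Fin 4) := by
    refine le_antisymm ?_ hlift
    rintro _ ⟨g, rfl⟩
    have he : Equiv.Perm.extendDomain (π g) (Fin.castSuccEmb.toEquivRange) ∈ induced G t :=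
      mem_induced.mpr ⟨g, g.2.1, fun i => by
        induction i using Fin.lastCases with
        | last =>
          rw [Equiv.Perm.extendDomain_apply_not_subtype _ _
            (by rintro ⟨i, hi⟩; exact Fin.castSucc_ne_last i hi), htl]
          exact g.2.2.1
        | cast i =>
          rw [show Equiv.Perm.extendDomain (π g) (Fin.castSuccEmb.toEquivRange) i.castSucc =
            (π g i).castSucc from Equiv.Perm.extendDomain_apply_image _ Fin.castSuccEmb.toEquivRange i,
            htc, htc, hπ]⟩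
    have := Equiv.Perm.mem_alternatingGroup.mp (hno t he)
    rw [Equiv.Perm.sign_extendDomain] at this
    exact Equiv.Perm.mem_alternatingGroup.mpr this
  have hPcard : Nat.card (P : Subgroup K) = 4 := by
    have hinj : Function.Injective (πHom.comp (P : Subgroup K).subtype) :=
      (injective_iff_map_eq_one _).mpr fun g hg => Subtype.ext (hPinj g g.2 hg)
    have hd : Nat.card (P : Subgroup K) ∣ 4 := by
      have h1 : Nat.card (P : Subgroup K) ∣ 12 := by
        have hle : (πHom.comp (P : Subgroup K).subtype).range ≤ alternatingGroup (Fin 4) := by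
          rw [← hA]; rintro _ ⟨g, rfl⟩; exact ⟨g, rfl⟩
        have := Subgroup.card_dvd_of_le hle
        rwa [Nat.card_congr (MonoidHom.ofInjective hinj).toEquiv.symm,
          show Nat.card (alternatingGroup (Fin 4)) = 12 by
            rw [nat_card_alternatingGroup, Nat.card_fin]; decide] at this
      obtain ⟨e, he⟩ := IsPGroup.iff_card.mp P.2
      rw [he] at h1 ⊢
      rcases Nat.lt_or_ge e 3 with h | h
      · interval_cases e <;> norm_num
      · have h8 := (pow_dvd_pow 2 h).trans h1
        norm_num at h8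
    refine Nat.dvd_antisymm hd ?_
    have h4 : 2 ^ 2 ∣ Nat.card K := by
      refine dvd_trans ?_ (Subgroup.card_range_dvd πHom)
      rw [hA, nat_card_alternatingGroup, Nat.card_fin]
      decide
    rw [P.card_eq_multiplicity]
    exact pow_dvd_pow 2 ((Nat.prime_two.pow_dvd_iff_le_factorization Nat.card_pos.ne').mp h4)
  set V : Subgroup (Equiv.Perm α) := (P : Subgroup K).map K.subtype with hV
  have hVcard : Nat.card V = 4 := by
    rw [hV, Subgroup.card_map_of_injective K.subtype_injective]; exact hPcard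
  have hsq : ∀ y ∈ V, y * y = 1 := by
    rintro _ ⟨g, hg, rfl⟩
    have hA4 : ∀ σ : Equiv.Perm (Fin 4), Equiv.Perm.sign σ = 1 → σ ^ 4 = 1 → σ * σ = 1 := by
      decide +kernel
    have h4 : g ^ 4 = 1 := by
      have := pow_card_eq_one' (x := (⟨g, hg⟩ : (P : Subgroup K)))
      rw [hPcard] at this
      exact congrArg Subtype.val this
    have h2 : g * g = 1 := hPinj _ (mul_mem hg hg) (by
      rw [map_mul]
      exact hA4 _ (Equiv.Perm.mem_alternatingGroup.mp (hA ▸ ⟨g, rfl⟩)) (by rw [← map_pow, h4, map_one]))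
    exact congrArg Subtype.val h2
  haveI : IsMulCommutative V := ⟨⟨fun a b => Subtype.ext (by
    have ha := inv_eq_of_mul_eq_one_right (hsq _ a.2)
    have hb := inv_eq_of_mul_eq_one_right (hsq _ b.2)
    have hab := inv_eq_of_mul_eq_one_right (hsq _ (mul_mem a.2 b.2))
    rw [mul_inv_rev, ha, hb] at hab
    exact hab.symm)⟩⟩
  have hnc : ¬ IsCyclic V := by
    intro h
    obtain ⟨g, hg⟩ := h.exists_generator
    have h2 : orderOf g = 4 := by rw [orderOf_eq_card_of_forall_mem_zpowers hg, hVcard]
    have h3 : g ^ 2 = 1 := Subtype.ext (by rw [SubmonoidClass.coe_pow, pow_two]; exact hsq _ g.2)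
    have := Nat.le_of_dvd two_pos (h2 ▸ orderOf_dvd_of_pow_eq_one h3)
    omega
  set H := ptStab G u with hH
  have hnorm : V ≤ Subgroup.normalizer (H : Set (Equiv.Perm α)) := by
    have key : ∀ y ∈ V, ∀ w ∈ H, y * w * y⁻¹ ∈ H := by
      rintro _ ⟨g, -, rfl⟩ w hw
      obtain ⟨hwG, hwu⟩ := mem_ptStab.mp hw
      refine mem_ptStab.mpr ⟨mul_mem (mul_mem g.2.1 hwG) (inv_mem g.2.1), fun i => ?_⟩
      obtain ⟨i', hi'⟩ := (π g).surjective i
      show ((g : Equiv.Perm α) * w * (g : Equiv.Perm α)⁻¹) (u i) = u i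
      rw [← hi', ← hπ, Equiv.Perm.mul_apply, Equiv.Perm.mul_apply, Equiv.Perm.coe_inv,
        Equiv.symm_apply_apply, hwu]
    intro y hy
    rw [Subgroup.mem_normalizer_iff]
    refine fun w => ⟨fun hw => key y hy w hw, fun hw => ?_⟩
    have := key y⁻¹ (inv_mem hy) _ hw
    rwa [show y⁻¹ * (y * w * y⁻¹) * y⁻¹⁻¹ = w by group] at this
  have hcop : (Nat.card V).Coprime (Nat.card H) := by
    rw [hVcard, show (4 : ℕ) = 2 ^ 2 by rfl]
    exact (Nat.coprime_two_left.mpr hodd).pow_left 2
  -- every centraliser fixes `p`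
  have hle : H ≤ stabilizer (Equiv.Perm α) p := by
    conv_lhs => rw [← CfsgLib.Coprime.iSup_centralizer_singleton hnc hnorm hcop]
    refine iSup₂_le fun y hy w hw => ?_
    obtain ⟨hyV, hy1⟩ := hy
    obtain ⟨g, hg, rfl⟩ := hyV
    have hfix := fix_lt_of_noOdd (j := 4) (by norm_num) hno g.2.1 (hsq _ ⟨g, hg, rfl⟩) hy1
    have hyp : (g : Equiv.Perm α) p = p := g.2.2.1
    have hwy : ∀ z, (g : Equiv.Perm α) z = z → (g : Equiv.Perm α) (w z) = w z := fun z hz => by
      have h := Subgroup.mem_centralizer_iff.mp hw.2 _ rfl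
      have h' := DFunLike.congr_fun h z
      simp only [Equiv.Perm.mul_apply] at h'
      exact h'.trans (congrArg w hz)
    show w p = p
    have hw2 : w (w p) = p := by
      by_contra hne
      have hne' : w p ≠ p := fun e => hne (by rw [e, e])
      have hsub : ({p, w p, w (w p)} : Finset α) ⊆ fixSet (g : Equiv.Perm α) := by
        intro z hz
        simp only [Finset.mem_insert, Finset.mem_singleton] at hz
        rcases hz with rfl | rfl | rfl
        · exact mem_fixSet.mpr hyp
        · exact mem_fixSet.mpr (hwy p hyp)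
        · exact mem_fixSet.mpr (hwy _ (hwy p hyp))
      have h3 := Finset.card_le_card hsub
      rw [Finset.card_eq_three.mpr ⟨p, w p, w (w p), hne'.symm, Ne.symm hne,
        fun e => hne' (w.injective e).symm, rfl⟩] at h3
      omega
    have hpow : ∀ e : ℕ, (w ^ (2 * e)) p = p := fun e => by
      induction e with
      | zero => rfl
      | succ e ih => rw [Nat.mul_succ, pow_add, Equiv.Perm.mul_apply, pow_two, Equiv.Perm.mul_apply, hw2, ih]
    obtain ⟨e, he⟩ := (hodd : Odd (Nat.card H))
    have h1 : w ^ (2 * e + 1) = 1 := by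
      rw [← he]
      exact congrArg Subtype.val (pow_card_eq_one' (x := (⟨w, hw.1⟩ : H)))
    have h2 := DFunLike.congr_fun h1 p
    rw [pow_succ', Equiv.Perm.mul_apply, hpow] at h2
    exact h2
  exact fun y hy => hle hy

/-- Transitivity with only even permutations on one more point bounds the degree. -/
theorem degree_le_of_noOdd (hj : 4 ≤ j) (hG : IsMultiplyPretransitive G α j) (hno : NoOdd G (j + 1))
    (hα : j + 1 ≤ Fintype.card α) (h4 : j = 4 → ∀ u : Fin j ↪ α, ptStab G u = ⊥ →
      Fintype.card α ≤ j + 2)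
    (halt : ∀ t : Fin (j + 1) ↪ α, alternatingGroup (Fin (j + 1)) ≤ induced G t) :
    Fintype.card α ≤ j + 2 := by
  obtain ⟨u⟩ : Nonempty (Fin j ↪ α) :=
    Function.Embedding.nonempty_of_card_le (by rw [Fintype.card_fin]; omega)
  rcases eq_or_lt_of_le hj with h | hj5
  · subst h
    exact h4 rfl u (ptStab_four hG hno halt u)
  by_contra hn
  push Not at hn
  have hab : (⟨0, by omega⟩ : Fin j) ≠ ⟨1, by omega⟩ := by simp
  obtain ⟨y, hy, hy2, hy1, hyu⟩ := exists_involution_lift hG u (odd_ptStab_of_noOdd (by omega) hno u) hab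
  have hlt := fix_lt_of_noOdd (by omega) hno hy hy2 hy1
  have hfs : fixSet y = ((Finset.univ.erase (⟨0, by omega⟩ : Fin j)).erase ⟨1, by omega⟩).map u := by
    ext x
    rw [mem_fixSet, Finset.mem_map]
    constructor
    · intro hx
      by_cases hxr : x ∈ Set.range u
      · obtain ⟨l, rfl⟩ := hxr
        refine ⟨l, ?_, rfl⟩
        rw [hyu] at hx
        have hx' := u.injective hx
        simp only [Finset.mem_erase, Finset.mem_univ, and_true]
        constructor <;> rintro rfl <;> simp at hx'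
      · exact absurd hx (not_fix_of_swap hno hy u hab hyu hxr)
    · rintro ⟨l, hl, rfl⟩
      simp only [Finset.mem_erase, Finset.mem_univ, and_true] at hl
      rw [hyu, Equiv.swap_apply_of_ne_of_ne hl.2 hl.1]
  have hc : (fixSet y).card = j - 2 := by
    rw [hfs, Finset.card_map,
      Finset.card_erase_of_mem (Finset.mem_erase.mpr ⟨hab.symm, Finset.mem_univ _⟩),
      Finset.card_erase_of_mem (Finset.mem_univ _), Finset.card_univ, Fintype.card_fin]
    omega
  have hs : y.support.card = Fintype.card α - (j - 2) := by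
    rw [← hc, ← Finset.card_compl]
    congr 1
    ext x
    simp [fixSet]
  have h2 : 2 ∣ y.support.card := Equiv.Perm.two_dvd_card_support (by rw [pow_two, hy2])
  exact no_odd_pairs hno hy hy2 (r := j - 5) (N := 3) (by omega) (by omega) (by omega) (by decide)

end CfsgLib.Perm.SetStab
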