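import Cfsg.Agent.Lib.Perm.SetStab.Homogeneous
import Cfsg.Agent.Lib.Perm.Normal
import Cfsg.Agent.S0732
import Cfsg.Agent.S0744

/-!
# Tools for the theorems of Livingstone and Wagner

Counting in homogeneous groups and two bounds on groups of degree `p` and `p + 1`.
-/

set_option autoImplicit false

namespace CfsgLib.Perm.SetStab

open MulAction
open scoped Pointwise

variable {α : Type*} [Fintype α] [DecidableEq α] {G : Subgroup (Equiv.Perm α)} {j : ℕ}

/-- The set of entries of a tuple. -/
def tupleSet (t : Fin j ↪ α) : Set.powersetCard α j :=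
  ⟨Finset.univ.map t, by simp⟩

theorem mem_tupleSet {t : Fin j ↪ α} {x : α} :
    x ∈ (tupleSet t : Finset α) ↔ ∃ i, t i = x := by simp [tupleSet]

/-- In a homogeneous group any two tuples differ by a permutation of the indices. -/
theorem exists_perm (hh : IsPretransitive G (Set.powersetCard α j)) (t t' : Fin j ↪ α) :
    ∃ g ∈ G, ∃ π : Equiv.Perm (Fin j), ∀ i, g (t i) = t' (π i) := by
  obtain ⟨g, hg⟩ := hh.exists_smul_eq (tupleSet t) (tupleSet t')
  have hg' : g • (tupleSet t : Finset α) = tupleSet t' := congrArg Subtype.val hg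
  have hmem : ∀ i, ∃ l, t' l = (g : Equiv.Perm α) (t i) := fun i => by
    have h := Finset.smul_mem_smul_finset (a := g) (mem_tupleSet.mpr ⟨i, rfl⟩ : t i ∈ (tupleSet t : Finset α))
    rw [hg'] at h
    exact mem_tupleSet.mp h
  choose f hf using hmem
  have hinj : Function.Injective f := fun x y e => t.injective ((g : Equiv.Perm α).injective (by
    rw [← hf, ← hf, e]))
  exact ⟨g, g.2, Equiv.ofBijective f (Finite.injective_iff_bijective.mp hinj), fun i => (hf i).symm⟩

theorem mem_induced_conj {t t' : Fin j ↪ α} {g : Equiv.Perm α} (hg : g ∈ G)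
    {π σ : Equiv.Perm (Fin j)} (hgt : ∀ i, g (t i) = t' (π i)) (hσ : σ ∈ induced G t) :
    π * σ * π⁻¹ ∈ induced G t' := by
  obtain ⟨f, hf, hft⟩ := mem_induced.mp hσ
  refine mem_induced.mpr ⟨g * f * g⁻¹, mul_mem (mul_mem hg hf) (inv_mem hg), fun i => ?_⟩
  obtain ⟨l, rfl⟩ := π.surjective i
  rw [← hgt, Equiv.Perm.mul_apply, Equiv.Perm.mul_apply, Equiv.Perm.coe_inv, Equiv.symm_apply_apply,
    hft, hgt, Equiv.Perm.mul_apply, Equiv.Perm.mul_apply, Equiv.Perm.coe_inv, Equiv.symm_apply_apply]

theorem alternating_le_all (hh : IsPretransitive G (Set.powersetCard α j)) {t : Fin j ↪ α}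
    (h : alternatingGroup (Fin j) ≤ induced G t) (t' : Fin j ↪ α) :
    alternatingGroup (Fin j) ≤ induced G t' := by
  obtain ⟨g, hg, π, hgt⟩ := exists_perm hh t t'
  intro σ hσ
  have h1 : π⁻¹ * σ * π ∈ alternatingGroup (Fin j) := by
    have := (inferInstance : (alternatingGroup (Fin j)).Normal).conj_mem σ hσ π⁻¹
    rwa [inv_inv] at this
  have := mem_induced_conj hg hgt (h h1)
  rwa [show π * (π⁻¹ * σ * π) * π⁻¹ = σ by group] at this

theorem transitive_of_top (hh : IsPretransitive G (Set.powersetCard α j)) {t : Fin j ↪ α}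
    (h : induced G t = ⊤) : IsMultiplyPretransitive G α j := by
  refine ⟨fun u v => ?_⟩
  obtain ⟨g, hg, π, hgu⟩ := exists_perm hh u t
  obtain ⟨f, hf, ρ, hfv⟩ := exists_perm hh v t
  obtain ⟨x, hx, hxt⟩ := mem_induced.mp (h ▸ Subgroup.mem_top (ρ * π⁻¹) : ρ * π⁻¹ ∈ induced G t)
  refine ⟨⟨f⁻¹ * x * g, mul_mem (mul_mem (inv_mem hf) hx) hg⟩, Function.Embedding.ext fun i => ?_⟩
  show (f⁻¹ * x * g) (u i) = v i
  rw [Equiv.Perm.mul_apply, Equiv.Perm.mul_apply, hgu, hxt, Equiv.Perm.inv_eq_iff_eq, hfv,
    Equiv.Perm.mul_apply, Equiv.Perm.coe_inv, Equiv.symm_apply_apply]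

theorem induced_ne_top (hh : IsPretransitive G (Set.powersetCard α j))
    (hnt : ¬ IsMultiplyPretransitive G α j) (t : Fin j ↪ α) : induced G t ≠ ⊤ :=
  fun h => hnt (transitive_of_top hh h)

/-- A proper subgroup containing the even permutations has none odd. -/
theorem le_alternating_of_ne_top {M : Subgroup (Equiv.Perm (Fin j))}
    (h : alternatingGroup (Fin j) ≤ M) (hne : M ≠ ⊤) : M ≤ alternatingGroup (Fin j) := by
  intro σ hσ
  by_contra hodd
  refine hne (eq_top_iff.mpr fun τ _ => ?_)
  by_cases hτ : τ ∈ alternatingGroup (Fin j)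
  · exact h hτ
  rw [Equiv.Perm.mem_alternatingGroup] at hodd hτ
  have : σ⁻¹ * τ ∈ alternatingGroup (Fin j) := by
    rw [Equiv.Perm.mem_alternatingGroup, map_mul, map_inv,
      (Int.units_eq_one_or _).resolve_left hodd, (Int.units_eq_one_or _).resolve_left hτ]
    rfl
  simpa using mul_mem hσ (h this)

theorem le_alternating_of_odd_card {M : Subgroup (Equiv.Perm (Fin j))} (h : Odd (Nat.card M)) :
    M ≤ alternatingGroup (Fin j) := by
  intro σ hσ
  rw [Equiv.Perm.mem_alternatingGroup]
  obtain ⟨r, hr⟩ := h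
  have h1 : σ ^ (2 * r + 1) = 1 := by
    rw [← hr]; exact congrArg Subtype.val (pow_card_eq_one' (x := (⟨σ, hσ⟩ : M)))
  have h2 := congrArg Equiv.Perm.sign h1
  rw [map_pow, map_one, pow_succ, pow_mul] at h2
  rcases Int.units_eq_one_or (Equiv.Perm.sign σ) with e | e
  · exact e
  · rw [e, neg_one_sq, one_pow, one_mul] at h2
    exact absurd h2 (by decide)

/-- A homogeneous group that is not transitive has trivial pointwise stabilisers. -/
theorem ptStab_eq_bot (hj : 1 ≤ j) (hjn : j + 1 ≤ Fintype.card α)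
    (h1 : IsPretransitive G (Set.powersetCard α j))
    (h2 : IsPretransitive G (Set.powersetCard α (j + 1)))
    (hnt : ¬ IsMultiplyPretransitive G α j) (t : Fin j ↪ α) : ptStab G t = ⊥ := by
  classical
  have hconst : ∀ (i : ℕ), IsPretransitive G (Set.powersetCard α i) → ∀ s s' : Finset α,
      s.card = i → s'.card = i →
      Nat.card (fixingSubgroup G (s : Set α)) = Nat.card (fixingSubgroup G (s' : Set α)) := by
    intro i hi s s' hs hs'
    obtain ⟨g, hg⟩ := hi.exists_smul_eq ⟨s, hs⟩ ⟨s', hs'⟩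
    have hg' : g • s = s' := congrArg Subtype.val hg
    have key : ∀ x ∈ fixingSubgroup G (s : Set α), g * x * g⁻¹ ∈ fixingSubgroup G (s' : Set α) := by
      intro x hx
      rw [mem_fixingSubgroup_iff] at hx ⊢
      intro y hy
      rw [Finset.mem_coe, ← hg', Finset.mem_smul_finset] at hy
      obtain ⟨z, hz, rfl⟩ := hy
      rw [mul_smul, mul_smul, inv_smul_smul, hx z hz]
    have key' : ∀ x ∈ fixingSubgroup G (s' : Set α), g⁻¹ * x * g ∈ fixingSubgroup G (s : Set α) := by
      intro x hx
      rw [mem_fixingSubgroup_iff] at hx ⊢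
      intro y hy
      rw [mul_smul, mul_smul, hx (g • y) (by rw [Finset.mem_coe, ← hg']; exact Finset.smul_mem_smul_finset hy),
        inv_smul_smul]
    exact Nat.card_congr
      { toFun := fun x => ⟨g * x * g⁻¹, key x x.2⟩
        invFun := fun x => ⟨g⁻¹ * x * g, key' x x.2⟩
        left_inv := fun x => Subtype.ext (by show g⁻¹ * (g * (x : G) * g⁻¹) * g = x; group)
        right_inv := fun x => Subtype.ext (by show g * (g⁻¹ * (x : G) * g) * g⁻¹ = x; group) }
  rw [Subgroup.eq_bot_iff_forall]
  intro x hx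
  by_contra hx1
  obtain ⟨hxG, hxt⟩ := mem_ptStab.mp hx
  obtain ⟨s₁, -, hs₁⟩ := Finset.exists_subset_card_eq
    (show j + 1 ≤ (Finset.univ : Finset α).card by rw [Finset.card_univ]; exact hjn)
  set s₀ := (tupleSet t : Finset α) with hs₀
  have hs₀c : s₀.card = j := (tupleSet t).2
  refine hnt ?_
  have := Cfsg.Agent.S0744.result G (k := j + 1) (by omega) hjn
    (Nat.card (fixingSubgroup G (s₀ : Set α))) (Nat.card (fixingSubgroup G (s₁ : Set α))) ?_
    (fun s hs => hconst j h1 s s₀ (by simpa using hs) hs₀c)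
    (fun s hs => hconst (j + 1) h2 s s₁ hs hs₁)
  · simpa using this
  · refine Finite.one_lt_card_iff_nontrivial.mpr ⟨⟨⟨⟨x, hxG⟩, ?_⟩, 1, fun e => hx1 ?_⟩⟩
    · rw [mem_fixingSubgroup_iff]
      intro y hy
      obtain ⟨i, rfl⟩ := mem_tupleSet.mp (Finset.mem_coe.mp hy)
      exact hxt i
    · exact congrArg (fun w : fixingSubgroup G (s₀ : Set α) => ((w : G) : Equiv.Perm α)) e

/-- Counting the sets. -/
theorem card_eq_choose_mul {r : ℕ} (hh : IsPretransitive G (Set.powersetCard α j)) (hrj : r ≤ j)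
    (hbot : ∀ t : Fin r ↪ α, ptStab G t = ⊥) (t : Fin j ↪ α) :
    Nat.card G = (Fintype.card α).choose j * Nat.card (induced G t) := by
  classical
  have hst : ∀ g : stabilizer G (tupleSet t), ∃ σ : Equiv.Perm (Fin j),
      ∀ i, ((g : G) : Equiv.Perm α) (t i) = t (σ i) := by
    intro g
    have hmem : ∀ i, ∃ l, t l = ((g : G) : Equiv.Perm α) (t i) := fun i => by
      rw [← mem_tupleSet]
      have e : (g : G) • (tupleSet t : Finset α) = tupleSet t :=
        congrArg Subtype.val (mem_stabilizer_iff.mp g.2)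
      have h := Finset.smul_mem_smul_finset (a := (g : G)) (mem_tupleSet.mpr ⟨i, rfl⟩ : t i ∈ (tupleSet t : Finset α))
      rw [e] at h
      exact h
    choose f hf using hmem
    exact ⟨Equiv.ofBijective f (Finite.injective_iff_bijective.mp fun x y e =>
      t.injective (((g : G) : Equiv.Perm α).injective (by rw [← hf, ← hf, e]))), fun i => (hf i).symm⟩
  choose π hπ using hst
  have hcard : Nat.card (stabilizer G (tupleSet t)) = Nat.card (induced G t) := by
    refine Nat.card_congr (Equiv.ofBijective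
      (fun g => (⟨π g, mem_induced.mpr ⟨_, (g : G).2, hπ g⟩⟩ : induced G t)) ⟨?_, ?_⟩)
    · intro g g' e
      have e' : π g = π g' := congrArg Subtype.val e
      let u : Fin r ↪ α := (Fin.castLEEmb hrj).trans t
      have hm : ((g' : G) : Equiv.Perm α)⁻¹ * (g : G) ∈ ptStab G u :=
        mem_ptStab.mpr ⟨mul_mem (inv_mem (g' : G).2) (g : G).2, fun i => by
          show (((g' : G) : Equiv.Perm α)⁻¹ * (g : G)) (t _) = t _
          rw [Equiv.Perm.mul_apply, hπ, Equiv.Perm.inv_eq_iff_eq, hπ, e']⟩
      rw [hbot u, Subgroup.mem_bot, inv_mul_eq_one] at hm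
      exact Subtype.ext (Subtype.ext hm.symm)
    · rintro ⟨σ, hσ⟩
      obtain ⟨g, hg, hgt⟩ := mem_induced.mp hσ
      have hstab : (⟨g, hg⟩ : G) ∈ stabilizer G (tupleSet t) := by
        rw [mem_stabilizer_iff]
        refine Subtype.ext ?_
        show (⟨g, hg⟩ : G) • (tupleSet t : Finset α) = (tupleSet t : Finset α)
        refine Finset.eq_of_subset_of_card_le (fun x hx => ?_) (by rw [Finset.card_smul_finset])
        obtain ⟨y, hy, rfl⟩ := Finset.mem_smul_finset.mp hx
        obtain ⟨i, rfl⟩ := mem_tupleSet.mp hy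
        exact mem_tupleSet.mpr ⟨σ i, (hgt i).symm⟩
      refine ⟨⟨_, hstab⟩, Subtype.ext (Equiv.ext fun i => t.injective ?_)⟩
      rw [← hπ ⟨_, hstab⟩]
      exact hgt i
  haveI := hh
  rw [← hcard, ← (stabilizer G (tupleSet t)).index_mul_card,
    index_stabilizer_of_transitive G (tupleSet t), Set.powersetCard.card, Nat.card_eq_fintype_card]

omit [DecidableEq α] in
/-- Counting the tuples. -/
theorem card_eq_descFactorial_mul (hG : IsMultiplyPretransitive G α j) (u : Fin j ↪ α) :
    Nat.card G = (Fintype.card α).descFactorial j * Nat.card (ptStab G u) := by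
  classical
  have hcard : Nat.card (stabilizer G u) = Nat.card (ptStab G u) := by
    refine Nat.card_congr
      { toFun := fun g => ⟨((g : G) : Equiv.Perm α), mem_ptStab.mpr ⟨(g : G).2, fun i =>
          congrArg (fun e : Fin j ↪ α => e i) (mem_stabilizer_iff.mp g.2)⟩⟩
        invFun := fun g => ⟨⟨g, (mem_ptStab.mp g.2).1⟩, Function.Embedding.ext (mem_ptStab.mp g.2).2⟩
        left_inv := fun g => rfl
        right_inv := fun g => rfl }
  have h := Nat.card_congr (orbitProdStabilizerEquivGroup G u)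
  have horb : Nat.card (orbit G u) = (Fintype.card α).descFactorial j :=
    (Nat.card_congr (Equiv.subtypeUnivEquiv fun v => hG.exists_smul_eq u v)).trans
      (by rw [Nat.card_eq_fintype_card, Fintype.card_embedding_eq, Fintype.card_fin])
  rw [Nat.card_prod] at h
  exact h.symm.trans (congrArg₂ (fun x y : ℕ => x * y) horb hcard)

omit [Fintype α] [DecidableEq α] in
/-- A transitive group of prime degree `p` and order `p d` with `d` having no divisor congruent to
one modulo `p` other than one has `d ≤ p - 1`. -/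
theorem prime_degree_bound [Fintype α] {p d : ℕ} (hp : p.Prime) (hα : Fintype.card α = p)
    (G : Subgroup (Equiv.Perm α)) [IsPretransitive G α] (hG : Nat.card G = p * d) (hpd : ¬ p ∣ d)
    (hdiv : ∀ t, t ∣ d → t % p = 1 → t = 1) : d ≤ p - 1 := by
  classical
  haveI : Fact p.Prime := ⟨hp⟩
  have hd0 : 0 < d := Nat.pos_of_ne_zero fun h => hpd (h ▸ dvd_zero p)
  obtain ⟨Q⟩ : Nonempty (Sylow p G) := inferInstance
  have hQc : Nat.card (Q : Subgroup G) = p := by
    rw [Q.card_eq_multiplicity, hG, Nat.factorization_mul hp.ne_zero hd0.ne', Finsupp.add_apply,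
      hp.factorization_self, Nat.factorization_eq_zero_of_not_dvd hpd, add_zero, pow_one]
  have hQi : (Q : Subgroup G).index = d := by
    have h3 := (Q : Subgroup G).index_mul_card
    rw [hG, hQc, mul_comm p d] at h3
    exact Nat.eq_of_mul_eq_mul_right hp.pos h3
  have hQn : (Q : Subgroup G).Normal := by
    have h1 : Nat.card (Sylow p G) ∣ d := hQi ▸ Q.card_dvd_index
    have h2 := card_sylow_modEq_one p G
    have h3 : Nat.card (Sylow p G) = 1 := hdiv _ h1 (by
      rw [Nat.ModEq, Nat.mod_eq_of_lt hp.one_lt] at h2; exact h2)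
    haveI : Subsingleton (Sylow p G) := (Nat.card_eq_one_iff_unique.mp h3).1
    exact Q.normal_of_subsingleton
  haveI : Nonempty α := Fintype.card_pos_iff.mp (hα ▸ hp.pos)
  have htr : ∀ x y : α, ∃ q ∈ (Q : Subgroup G), q • x = y := by
    intro x y
    have h1 : Nat.card (orbit (Q : Subgroup G) x) ∣ p := by
      have h := Nat.card_congr (orbitProdStabilizerEquivGroup (Q : Subgroup G) x)
      rw [Nat.card_prod, hQc] at h
      exact Dvd.intro _ h
    rcases (Nat.dvd_prime hp).mp h1 with h | h
    · -- then the normal subgroup fixes every point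
      exfalso
      have hfix : ∀ q ∈ (Q : Subgroup G), q • x = x := fun q hq => by
        obtain ⟨hsub, -⟩ := Nat.card_eq_one_iff_unique.mp h
        exact congrArg Subtype.val (hsub.elim (⟨q • x, ⟨q, hq⟩, rfl⟩ : orbit (Q : Subgroup G) x)
          ⟨x, mem_orbit_self x⟩)
      have : (Q : Subgroup G) = ⊥ := (Subgroup.eq_bot_iff_forall _).mpr fun q hq =>
        Subtype.ext (Equiv.ext fun z => by
          obtain ⟨g, rfl⟩ := exists_smul_eq G x z
          have h2 := hfix _ (hQn.conj_mem q hq g⁻¹)
          rw [inv_inv, mul_smul, mul_smul, inv_smul_eq_iff] at h2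
          exact h2)
      rw [this, Subgroup.card_bot] at hQc
      exact hp.one_lt.ne hQc
    · have heq : orbit (Q : Subgroup G) x = Set.univ := Set.eq_of_subset_of_ncard_le (Set.subset_univ _)
        (by rw [Set.ncard_univ, Nat.card_eq_fintype_card, hα, ← Nat.card_coe_set_eq, h]) (Set.toFinite _)
      obtain ⟨⟨q, hq⟩, hqy⟩ : y ∈ orbit (Q : Subgroup G) x := by rw [heq]; exact Set.mem_univ y
      exact ⟨q, hq, hqy⟩
  obtain ⟨a⟩ : Nonempty α := inferInstance
  have hS : Nat.card (stabilizer G a) = d := by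
    have h := (stabilizer G a).index_mul_card
    rw [index_stabilizer_of_transitive G a, Nat.card_eq_fintype_card (α := α), hα, hG] at h
    exact Nat.eq_of_mul_eq_mul_left hp.pos h
  haveI : IsCyclic (Q : Subgroup G) := isCyclic_of_prime_card hQc
  let c : stabilizer G a →* MulAut (Q : Subgroup G) :=
    (MulAut.conjNormal (H := (Q : Subgroup G))).comp (stabilizer G a).subtype
  have hc : Function.Injective c := by
    refine (injective_iff_map_eq_one c).mpr fun g hg => Subtype.ext (Subtype.ext (Equiv.ext fun z => ?_))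
    show (g : G) • z = z
    obtain ⟨q, hq, rfl⟩ := htr a z
    have h := congrArg (fun φ : MulAut (Q : Subgroup G) => ((φ ⟨q, hq⟩ : (Q : Subgroup G)) : G)) hg
    have h' : (g : G) * q * (g : G)⁻¹ = q := (MulAut.conjNormal_apply (g : G) ⟨q, hq⟩).symm.trans h
    rw [← mul_smul, mul_inv_eq_iff_eq_mul.mp h', mul_smul]
    exact congrArg (q • ·) g.2
  have := Nat.card_le_card_of_injective c hc
  rw [hS, IsCyclic.card_mulAut, hQc, Nat.totient_prime hp] at this
  exact this

omit [Fintype α] [DecidableEq α] in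
/-- The arithmetic consequences of the structure of groups of degree `p + 1`. -/
theorem degree_succ_bound [Fintype α] [DecidableEq α] {p d : ℕ} (hp : p.Prime)
    (hα : Fintype.card α = p + 1) (G : Subgroup (Equiv.Perm α)) [IsPretransitive G α]
    (hG : Nat.card G = (p + 1) * p * d) (hd : d < p) :
    d = p - 1 ∨ 2 * d = p - 1 ∨ ∃ q : ℕ, p + 1 = 2 ^ q ∧ (d = 1 ∨ d = q) := by
  rcases Cfsg.Agent.S0732.result hp hα G hG hd with h | h | ⟨q, -, h, h', -⟩
  · exact Or.inl h.1
  · exact Or.inr (Or.inl h.1)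
  · exact Or.inr (Or.inr ⟨q, h, h'⟩)

/-- The group induced by a point stabiliser on the other points. -/
theorem exists_restriction (h2 : IsMultiplyPretransitive G α 2) (a : α) :
    ∃ G' : Subgroup (Equiv.Perm {x : α // x ≠ a}), IsPretransitive G' {x : α // x ≠ a} ∧
      Fintype.card α * Nat.card G' = Nat.card G := by
  classical
  haveI : IsPretransitive G α := isPretransitive_of_is_two_pretransitive (h2 := h2)
  letI : MulAction (stabilizer G a) {x : α // x ≠ a} :=
    { smul := fun g x => ⟨(g : G) • (x : α), fun e =>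
        x.2 (MulAction.injective (g : G) (e.trans g.2.symm))⟩
      one_smul := fun x => Subtype.ext (one_smul G (x : α))
      mul_smul := fun g g' x => Subtype.ext (mul_smul (g : G) (g' : G) (x : α)) }
  set θ := toPermHom (stabilizer G a) {x : α // x ≠ a}
  have hθ : Function.Injective θ := (injective_iff_map_eq_one θ).mpr fun g hg => by
    refine Subtype.ext (Subtype.ext (Equiv.ext fun z => ?_))
    show (g : G) • z = z
    by_cases hz : z = a
    · rw [hz]; exact g.2
    · exact congrArg Subtype.val (DFunLike.congr_fun hg ⟨z, hz⟩)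
  refine ⟨θ.range, ⟨fun x y => ?_⟩, ?_⟩
  · obtain ⟨g, hga, hgx⟩ := (is_two_pretransitive_iff.mp h2) x.2.symm y.2.symm
    exact ⟨⟨θ ⟨g, hga⟩, _, rfl⟩, Subtype.ext hgx⟩
  · rw [Nat.card_congr (MonoidHom.ofInjective hθ).toEquiv.symm, ← Nat.card_eq_fintype_card,
      ← index_stabilizer_of_transitive G a, Subgroup.index_mul_card]

end CfsgLib.Perm.SetStab
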