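import Cfsg.Agent.Lib.Perm.SetStab.LWTools

/-!
# The theorems of Livingstone and Wagner
-/

set_option autoImplicit false

namespace CfsgLib.Perm.SetStab

open MulAction
open scoped Pointwise

variable {α : Type*} [Fintype α] [DecidableEq α] {G : Subgroup (Equiv.Perm α)}

/-- A group of permutations containing the even ones and not all is the alternating group. -/
theorem eq_alternating_of_ne_top (h : alternatingGroup α ≤ G) (hne : G ≠ ⊤) : G = alternatingGroup α := by
  refine le_antisymm ?_ h
  intro σ hσ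
  by_contra hodd
  refine hne (eq_top_iff.mpr fun τ _ => ?_)
  by_cases hτ : τ ∈ alternatingGroup α
  · exact h hτ
  rw [Equiv.Perm.mem_alternatingGroup] at hodd hτ
  have : σ⁻¹ * τ ∈ alternatingGroup α := by
    rw [Equiv.Perm.mem_alternatingGroup, map_mul, map_inv,
      (Int.units_eq_one_or _).resolve_left hodd, (Int.units_eq_one_or _).resolve_left hτ]
    rfl
  simpa using mul_mem hσ (h this)

/-- A transitive group with `j ≥ 4` in which the groups induced on `j + 1` points are alternating
has degree at most `j + 2`. -/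
theorem degree_le_of_homogeneous {j : ℕ} (hj : 4 ≤ j) (hjn : j + 1 ≤ Fintype.card α)
    (hG : IsMultiplyPretransitive G α j) (hh : IsPretransitive G (Set.powersetCard α (j + 1)))
    (hnt : ¬ IsMultiplyPretransitive G α (j + 1)) : Fintype.card α ≤ j + 2 := by
  obtain ⟨t, ht⟩ := exists_alternating _ G hj (by omega) hG rfl
  have halt := fun t' => alternating_le_all hh ht t'
  have hno : NoOdd G (j + 1) := fun t' => le_alternating_of_ne_top (halt t') (induced_ne_top hh hnt t')
  refine degree_le_of_noOdd hj hG hno hjn ?_ halt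
  rintro rfl u hu
  have h1 := card_eq_descFactorial_mul hG u
  rw [hu, Subgroup.card_bot, mul_one] at h1
  have hbot : ∀ t : Fin 4 ↪ α, ptStab G t = ⊥ := fun t => ptStab_four hG hno halt t
  have h2 := card_eq_choose_mul hh (r := 4) (by omega) hbot t
  have h3 : induced G t = alternatingGroup (Fin 5) := le_antisymm (hno t) (halt t)
  rw [h3, nat_card_alternatingGroup, Nat.card_fin, h1] at h2
  have h5 : Nat.factorial 5 = 120 := rfl
  have h6 := Nat.descFactorial_eq_factorial_mul_choose (Fintype.card α) 5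
  rw [Nat.descFactorial_succ, h2, h5] at h6
  rw [h5] at h2
  have hpos : 0 < (Fintype.card α).choose 5 := Nat.choose_pos (by omega)
  have h7 : (Fintype.card α - 4) * (120 / 2) = 120 := by
    apply Nat.eq_of_mul_eq_mul_left hpos
    calc (Fintype.card α).choose 5 * ((Fintype.card α - 4) * (120 / 2))
        = (Fintype.card α - 4) * ((Fintype.card α).choose 5 * (120 / 2)) := by ring
      _ = 120 * (Fintype.card α).choose 5 := h6
      _ = _ := mul_comm _ _
  omega

section Small

variable {i : ℕ} (hi : 1 ≤ i) (hin : i + 2 < Fintype.card α) (ht : IsMultiplyPretransitive G α i)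
  (hnt : ¬ IsMultiplyPretransitive G α (i + 1))
  (hh1 : IsPretransitive G (Set.powersetCard α (i + 1)))
  (hh : IsPretransitive G (Set.powersetCard α (i + 2)))

include hin ht hnt hh1 hh in
/-- The arithmetic of the exceptional groups. -/
theorem exists_parameters : ∃ f a d : ℕ, Nat.card G = (Fintype.card α).descFactorial i * f ∧
    (∀ u : Fin i ↪ α, Nat.card (ptStab G u) = f) ∧
    (∀ t : Fin (i + 1) ↪ α, Nat.card (induced G t) = a) ∧
    a ∣ Nat.factorial (i + 1) ∧ a ≠ Nat.factorial (i + 1) ∧
    (Fintype.card α - i) * a = Nat.factorial (i + 1) * f ∧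
    (Fintype.card α - (i + 1)) * d = (i + 2) * a := by
  obtain ⟨v⟩ : Nonempty (Fin (i + 2) ↪ α) :=
    Function.Embedding.nonempty_of_card_le (by rw [Fintype.card_fin]; omega)
  let t : Fin (i + 1) ↪ α := (Fin.castLEEmb (by omega)).trans v
  let u : Fin i ↪ α := (Fin.castLEEmb (by omega)).trans v
  set n := Fintype.card α with hn
  set f := Nat.card (ptStab G u)
  set a := Nat.card (induced G t)
  set d := Nat.card (induced G v)
  have hbot := fun t => ptStab_eq_bot (G := G) (j := i + 1) (by omega) (by omega) hh1 hh hnt t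
  have e1 : Nat.card G = n.descFactorial i * f := card_eq_descFactorial_mul ht u
  have e2 : Nat.card G = n.choose (i + 1) * a := card_eq_choose_mul hh1 le_rfl hbot t
  have e3 : Nat.card G = n.choose (i + 2) * d := card_eq_choose_mul hh (Nat.le_succ _) hbot v
  have d1 := Nat.descFactorial_eq_factorial_mul_choose n (i + 1)
  have d2 := Nat.descFactorial_eq_factorial_mul_choose n (i + 2)
  rw [Nat.descFactorial_succ] at d1
  rw [Nat.descFactorial_succ, Nat.descFactorial_succ, Nat.factorial_succ] at d2
  have hpos : 0 < n.descFactorial i := Nat.descFactorial_pos.mpr (by omega)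
  have h1 : (n - i) * a = Nat.factorial (i + 1) * f := by
    refine Nat.eq_of_mul_eq_mul_left hpos ?_
    calc n.descFactorial i * ((n - i) * a) = (n - i) * n.descFactorial i * a := by ring
      _ = Nat.factorial (i + 1) * (n.choose (i + 1) * a) := by rw [d1]; ring
      _ = _ := by rw [← e2, e1]; ring
  refine ⟨f, a, d, e1, fun w => card_ptStab ht w u, fun s => ?_, ?_, fun h => ?_, h1, ?_⟩
  · exact Nat.eq_of_mul_eq_mul_left (Nat.choose_pos (by omega))
      ((card_eq_choose_mul hh1 le_rfl hbot s).symm.trans e2)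
  · have h := Subgroup.card_subgroup_dvd_card (induced G t)
    rwa [Nat.card_eq_fintype_card (α := Equiv.Perm (Fin (i + 1))), Fintype.card_perm, Fintype.card_fin] at h
  · refine induced_ne_top hh1 hnt t (Subgroup.eq_top_of_card_eq _ ?_)
    rw [Nat.card_eq_fintype_card (α := Equiv.Perm (Fin (i + 1))), Fintype.card_perm, Fintype.card_fin]
    exact h
  · refine Nat.eq_of_mul_eq_mul_left (show 0 < n - i by omega) ?_
    refine Nat.eq_of_mul_eq_mul_left hpos ?_
    calc n.descFactorial i * ((n - i) * ((n - (i + 1)) * d))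
        = (n - (i + 1)) * ((n - i) * n.descFactorial i) * d := by ring
      _ = (i + 1 + 1) * Nat.factorial (i + 1) * (n.choose (i + 2) * d) := by rw [d2]; ring
      _ = n.descFactorial i * ((i + 2) * (Nat.factorial (i + 1) * f)) := by rw [← e3, e1]; ring
      _ = _ := by rw [← h1]; ring

/-- An involution fixing a tuple forbids even groups on two more points. -/
theorem false_of_even_stab {r : ℕ} (hno : NoOdd G (r + 2)) {s : ℕ} (hrs : r ≤ s) (u : Fin s ↪ α)
    (h : 2 ∣ Nat.card (ptStab G u)) : False := by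
  haveI : Fact (Nat.Prime 2) := ⟨Nat.prime_two⟩
  obtain ⟨z, hz⟩ := exists_prime_orderOf_dvd_card' (G := ptStab G u) 2 h
  have hz1 : (z : Equiv.Perm α) ≠ 1 := fun e => by
    rw [← Subgroup.orderOf_coe, e, orderOf_one] at hz
    omega
  have hz2 : (z : Equiv.Perm α) * z = 1 := by
    rw [← pow_two, ← hz, ← Subgroup.orderOf_coe, pow_orderOf_eq_one]
  obtain ⟨hzG, hzu⟩ := mem_ptStab.mp z.2
  have hsub : (Finset.univ.map u) ⊆ fixSet (z : Equiv.Perm α) := fun x hx => by
    obtain ⟨l, -, rfl⟩ := Finset.mem_map.mp hx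
    exact mem_fixSet.mpr (hzu l)
  have h1 := Finset.card_le_card hsub
  rw [Finset.card_map, Finset.card_univ, Fintype.card_fin] at h1
  refine no_odd_pairs hno hzG hz2 (r := r) (N := 1) (by omega) ?_ (by omega) odd_one
  have h0 : (z : Equiv.Perm α).support.card ≠ 0 := fun h0 =>
    hz1 (Equiv.Perm.support_eq_empty_iff.mp (Finset.card_eq_zero.mp h0))
  have h2 : 2 ∣ (z : Equiv.Perm α).support.card :=
    Equiv.Perm.two_dvd_card_support (by rw [pow_two, hz2])
  omega

omit [DecidableEq α] in
/-- Two bounds on the point stabiliser of a doubly transitive group. -/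
theorem false_of_stabilizer (h2 : IsMultiplyPretransitive G α 2) {p d : ℕ} (hp : p.Prime)
    (hcase : (Fintype.card α = p + 2 ∧ Nat.card G = (p + 2) * ((p + 1) * p * d) ∧ d < p ∧ d ≠ p - 1 ∧
        2 * d ≠ p - 1 ∧ ∀ q : ℕ, p + 1 = 2 ^ q → d ≠ 1 ∧ d ≠ q) ∨
      (Fintype.card α = p + 1 ∧ Nat.card G = (p + 1) * (p * d) ∧ ¬ p ∣ d ∧
        (∀ t, t ∣ d → t % p = 1 → t = 1) ∧ p - 1 < d)) : False := by
  classical
  obtain ⟨a⟩ : Nonempty α := Fintype.card_pos_iff.mp (by rcases hcase with h | h <;> omega)
  obtain ⟨G', htr, hcard⟩ := exists_restriction h2 a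
  have hcα : Fintype.card {x : α // x ≠ a} = Fintype.card α - 1 := by
    rw [Fintype.card_subtype_compl, Fintype.card_subtype_eq]
  rcases hcase with ⟨hn, hG, hd, h1, h2', h3⟩ | ⟨hn, hG, hpd, hdiv, hd⟩
  · rw [hn, hG] at hcard
    rcases degree_succ_bound hp (by rw [hcα, hn]; omega) G'
      (Nat.eq_of_mul_eq_mul_left (by omega) hcard) hd with h | h | ⟨q, hq, h | h⟩
    · exact h1 h
    · exact h2' h
    · exact (h3 q hq).1 h
    · exact (h3 q hq).2 h
  · rw [hn, hG] at hcard
    have := prime_degree_bound hp (by rw [hcα, hn]; omega) G'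
      (Nat.eq_of_mul_eq_mul_left (by omega) hcard) hpd hdiv
    omega

include hi hin ht hnt hh1 hh in
/-- The exceptional groups with `i ≤ 3`. -/
theorem small_cases (hi3 : i ≤ 3) : (Fintype.card α = 5 ∧ i = 2 ∧ Nat.card G = 20) ∨
    (Fintype.card α = 6 ∧ i = 3 ∧ Nat.card G = 120) ∨
    (Fintype.card α = 9 ∧ i = 3 ∧ (Nat.card G = 504 ∨ Nat.card G = 1512)) := by
  obtain ⟨f, a, d, hG, hf, ha, had, hane, e1, e2⟩ := exists_parameters hin ht hnt hh1 hh
  set n := Fintype.card α with hn
  obtain ⟨u⟩ : Nonempty (Fin i ↪ α) :=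
    Function.Embedding.nonempty_of_card_le (by rw [Fintype.card_fin]; omega)
  interval_cases i
  · -- degree five with an involution
    rw [show Nat.factorial (1 + 1) = 2 from rfl] at had hane e1
    obtain rfl : a = 1 := by
      have := Nat.le_of_dvd two_pos had
      interval_cases a <;> simp_all
    have hn5 : n = 5 ∧ f = 2 := by
      have h3 : n - (1 + 1) ∣ 3 := ⟨d, by omega⟩
      rcases (Nat.dvd_prime Nat.prime_three).mp h3 with h | h <;> omega
    exfalso
    exact false_of_even_stab (r := 0) (fun t => le_alternating_of_odd_card (by rw [ha]; exact odd_one))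
      (s := 1) (by omega) u (by rw [hf, hn5.2])
  · rw [show Nat.factorial (2 + 1) = 6 from rfl] at had hane e1
    have ha6 := Nat.le_of_dvd (by norm_num) had
    have ha0 : 0 < a := by rcases Nat.eq_zero_or_pos a with h | h <;> [skip; exact h]; simp [h] at had
    have hle : n - (2 + 1) ≤ (2 + 2) * a := Nat.le_of_dvd (by omega) ⟨d, e2.symm⟩
    have hcases : (n = 5 ∧ f = 1) ∨ (n = 6 ∧ f = 2 ∧ a = 3) ∨ (n = 11 ∧ f = 3) := by
      have : a = 1 ∨ a = 2 ∨ a = 3 := by interval_cases a <;> omega
      have hn15 : n ≤ 15 := by omega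
      rcases this with rfl | rfl | rfl <;> interval_cases n <;> omega
    rcases hcases with ⟨h1, h2⟩ | ⟨h1, h2, h3⟩ | ⟨h1, h2⟩
    · left
      refine ⟨h1, rfl, ?_⟩
      rw [hG, h1, h2]; rfl
    · exfalso
      exact false_of_even_stab (r := 1) (fun t => le_alternating_of_odd_card (by rw [ha, h3]; decide))
        (s := 2) (by omega) u (by rw [hf, h2])
    · exfalso
      haveI : IsPretransitive G α := isPretransitive_of_is_two_pretransitive (h2 := ht)
      have := prime_degree_bound (p := 11) (d := 30) (by norm_num) h1 G (by rw [hG, h1, h2]; rfl)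
        (by decide) (fun t ht' ht'' => by
          have := Nat.le_of_dvd (by norm_num) ht'
          interval_cases t <;> omega)
      omega
  · rw [show Nat.factorial (3 + 1) = 24 from rfl] at had hane e1
    have ha24 := Nat.le_of_dvd (by norm_num) had
    have hcases : (n = 6 ∧ f = 1) ∨ (n = 9 ∧ f = 1) ∨ (n = 9 ∧ f = 3) ∨ (n = 7 ∧ f = 1) ∨
        (n = 7 ∧ f = 2 ∧ a = 12) ∨ (n = 9 ∧ f = 2) ∨ (n = 12 ∧ f = 3) ∨ (n = 19 ∧ f = 2) ∨
        (n = 19 ∧ f = 4) ∨ (n = 19 ∧ f = 8 ∧ a = 12) ∨ (n = 24 ∧ f = 7) := by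
      have ha' : a = 1 ∨ a = 2 ∨ a = 3 ∨ a = 4 ∨ a = 6 ∨ a = 8 ∨ a = 12 := by
        interval_cases a <;> omega
      have hle : n - (3 + 1) ≤ (3 + 2) * a := Nat.le_of_dvd (by omega) ⟨d, e2.symm⟩
      rcases ha' with rfl | rfl | rfl | rfl | rfl | rfl | rfl <;>
        (have : n ≤ 64 := by omega) <;> interval_cases n <;> omega
    haveI := ht
    have ht2 : IsMultiplyPretransitive G α 2 :=
      isMultiplyPretransitive_of_le (n := 3) (by norm_num) (by rw [Nat.card_eq_fintype_card]; omega)
    have hz : a = 12 → 2 ∣ f → False := by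
      intro h12 h2f
      refine false_of_even_stab (r := 2) (s := 3) ?_ (by omega) u (by rw [hf]; exact h2f)
      intro t
      refine le_of_eq (Equiv.Perm.eq_alternatingGroup_of_index_eq_two ?_)
      have h := (induced G t).index_mul_card
      rw [ha, h12, Nat.card_eq_fintype_card, Fintype.card_perm, Fintype.card_fin] at h
      change (induced G t).index * 12 = 24 at h
      omega
    rcases hcases with ⟨h1, h2⟩ | ⟨h1, h2⟩ | ⟨h1, h2⟩ | ⟨h1, h2⟩ | ⟨h1, h2, h3⟩ | ⟨h1, h2⟩ |
      ⟨h1, h2⟩ | ⟨h1, h2⟩ | ⟨h1, h2⟩ | ⟨h1, h2, h3⟩ | ⟨h1, h2⟩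
    · right; left
      refine ⟨h1, rfl, ?_⟩
      rw [hG, h1, h2]; rfl
    · right; right
      exact ⟨h1, rfl, Or.inl (by rw [hG, h1, h2]; rfl)⟩
    · right; right
      exact ⟨h1, rfl, Or.inr (by rw [hG, h1, h2]; rfl)⟩
    · exfalso
      refine false_of_stabilizer ht2 (p := 5) (d := 1) (by norm_num)
        (Or.inl ⟨h1, by rw [hG, h1, h2]; rfl, by omega, by omega, by omega, fun q hq => ?_⟩)
      rcases Nat.lt_or_ge q 3 with hq3 | hq3
      · interval_cases q <;> omega
      · have := Nat.pow_le_pow_right (show 2 > 0 by norm_num) hq3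
        omega
    · exact (hz h3 (by rw [h2])).elim
    · exfalso
      refine false_of_stabilizer ht2 (p := 7) (d := 2) (by norm_num)
        (Or.inl ⟨h1, by rw [hG, h1, h2]; rfl, by omega, by omega, by omega, fun q hq => ?_⟩)
      rcases Nat.lt_or_ge q 4 with hq3 | hq3
      · interval_cases q <;> omega
      · have := Nat.pow_le_pow_right (show 2 > 0 by norm_num) hq3
        omega
    · exfalso
      exact false_of_stabilizer ht2 (p := 11) (d := 30) (by norm_num)
        (Or.inr ⟨h1, by rw [hG, h1, h2]; rfl, by decide, fun t ht' ht'' => by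
          have := Nat.le_of_dvd (by norm_num) ht'
          interval_cases t <;> omega, by omega⟩)
    · exfalso
      refine false_of_stabilizer ht2 (p := 17) (d := 2) (by norm_num)
        (Or.inl ⟨h1, by rw [hG, h1, h2]; rfl, by omega, by omega, by omega, fun q hq => ?_⟩)
      rcases Nat.lt_or_ge q 5 with hq3 | hq3
      · interval_cases q <;> omega
      · have := Nat.pow_le_pow_right (show 2 > 0 by norm_num) hq3
        omega
    · exfalso
      refine false_of_stabilizer ht2 (p := 17) (d := 4) (by norm_num)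
        (Or.inl ⟨h1, by rw [hG, h1, h2]; rfl, by omega, by omega, by omega, fun q hq => ?_⟩)
      rcases Nat.lt_or_ge q 5 with hq3 | hq3
      · interval_cases q <;> omega
      · have := Nat.pow_le_pow_right (show 2 > 0 by norm_num) hq3
        omega
    · exact (hz h3 (by rw [h2]; norm_num)).elim
    · exfalso
      exact false_of_stabilizer ht2 (p := 23) (d := 154) (by norm_num)
        (Or.inr ⟨h1, by rw [hG, h1, h2]; rfl, by decide, fun t ht' ht'' => by
          have := Nat.le_of_dvd (by norm_num) ht'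
          interval_cases t <;> omega, by omega⟩)

end Small

end CfsgLib.Perm.SetStab
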