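import Cfsg.Agent.Lib.Perm.SetStab.Semiregular

/-!
# Some set of `k + 1` points carries all its even permutations

Sylow's theorem in the form of Witt and Gleason reduces a `k`-transitive group to one in which no
non-identity element fixes more than `k` points.
-/

set_option autoImplicit false

namespace CfsgLib.Perm.SetStab

open MulAction

universe u

/-- In a `k`-transitive group, `4 ≤ k < n`, some tuple of `k + 1` points has all even permutations
induced on it. -/
theorem exists_alternating : ∀ (n : ℕ) {α : Type u} [Fintype α] [DecidableEq α]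
    (G : Subgroup (Equiv.Perm α)) {k : ℕ}, 4 ≤ k → k < Fintype.card α →
    IsMultiplyPretransitive G α k → Fintype.card α = n →
    ∃ t : Fin (k + 1) ↪ α, alternatingGroup (Fin (k + 1)) ≤ induced G t := by
  intro n
  induction n using Nat.strong_induction_on with
  | _ n IH =>
    intro α _ _ G k hk hkn hG hn
    classical
    by_cases hfree : ∀ g ∈ G, ∀ t : Fin (k + 1) ↪ α, (∀ i, g (t i) = t i) → g = 1
    · exact exists_alternating_of_semiregular hG hfree hk hkn
    push Not at hfree
    obtain ⟨g, hg, t, hgt, hg1⟩ := hfree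
    set r := (orderOf g).minFac with hr
    have hrp : r.Prime := Nat.minFac_prime (by rw [ne_eq, orderOf_eq_one_iff]; exact hg1)
    haveI : Fact r.Prime := ⟨hrp⟩
    set x := g ^ (orderOf g / r) with hx
    have hxo : orderOf x = r := orderOf_pow_orderOf_div (orderOf_pos g).ne' (Nat.minFac_dvd _)
    let Good : Subgroup (Equiv.Perm α) → Prop := fun R => R ≤ G ∧ IsPGroup r R ∧
      ∃ t : Fin (k + 1) ↪ α, ∀ q ∈ R, ∀ i, q (t i) = t i
    have hxgood : Good (Subgroup.zpowers x) := by
      refine ⟨Subgroup.zpowers_le.mpr (pow_mem hg _), IsPGroup.of_card (n := 1)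
        (by rw [Nat.card_zpowers, hxo, pow_one]), t, fun q hq i => ?_⟩
      exact (show Subgroup.zpowers x ≤ stabilizer (Equiv.Perm α) (t i) from Subgroup.zpowers_le.mpr
        (pow_mem (show g ∈ stabilizer (Equiv.Perm α) (t i) from hgt i) _)) hq
    letI := Fintype.ofFinite (Subgroup (Equiv.Perm α))
    obtain ⟨Q, hQ, hmax⟩ := Finset.exists_max_image (Finset.univ.filter Good)
      (fun R => Nat.card R) ⟨_, Finset.mem_filter.mpr ⟨Finset.mem_univ _, hxgood⟩⟩
    obtain ⟨hQG, hQp, t₀, ht₀⟩ : Good Q := (Finset.mem_filter.mp hQ).2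
    have hmax' : ∀ R, Good R → Nat.card R ≤ Nat.card Q := fun R hR =>
      hmax R (Finset.mem_filter.mpr ⟨Finset.mem_univ _, hR⟩)
    have hQne : Q ≠ ⊥ := by
      intro h
      have := hmax' _ hxgood
      rw [Nat.card_zpowers, hxo, h, Subgroup.card_bot] at this
      exact absurd hrp.one_lt (not_lt.mpr this)
    -- the fixed points and the normaliser
    let Φ := {y : α // ∀ q ∈ Q, q y = y}
    set N := G ⊓ Subgroup.normalizer (Q : Set (Equiv.Perm α)) with hN
    have hNΦ : ∀ f ∈ N, ∀ y : α, (∀ q ∈ Q, q y = y) → ∀ q ∈ Q, q (f y) = f y := by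
      intro f hf y hy q hq
      have h1 : f⁻¹ * q * f⁻¹⁻¹ ∈ Q := ((Subgroup.mem_normalizer_iff).mp (inv_mem hf.2) q).mp hq
      have h2 := hy _ h1
      rw [inv_inv, Equiv.Perm.mul_apply, Equiv.Perm.mul_apply, Equiv.Perm.inv_eq_iff_eq] at h2
      exact h2
    letI : MulAction N Φ :=
      { smul := fun f y => ⟨(f : Equiv.Perm α) y, hNΦ f f.2 y y.2⟩
        one_smul := fun y => Subtype.ext rfl
        mul_smul := fun f f' y => Subtype.ext rfl }
    have hsmul : ∀ (f : N) (y : Φ), ((f • y : Φ) : α) = (f : Equiv.Perm α) y := fun _ _ => rfl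
    have hΦlt : Fintype.card Φ < n := by
      rw [← hn]
      refine Fintype.card_subtype_lt (x := ?_) ?_ (p := fun y => ∀ q ∈ Q, q y = y)
      · exact Classical.choose (show ∃ y, ¬ ∀ q ∈ Q, q y = y from by
          by_contra hall
          push Not at hall
          exact hQne ((Subgroup.eq_bot_iff_forall _).mpr fun q hq => Equiv.ext fun y => hall y q hq))
      · exact Classical.choose_spec (show ∃ y, ¬ ∀ q ∈ Q, q y = y from by
          by_contra hall
          push Not at hall
          exact hQne ((Subgroup.eq_bot_iff_forall _).mpr fun q hq => Equiv.ext fun y => hall y q hq))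
    let t' : Fin (k + 1) ↪ Φ :=
      ⟨fun i => ⟨t₀ i, fun q hq => ht₀ q hq i⟩, fun i j e => t₀.injective (congrArg Subtype.val e)⟩
    have hkΦ : k < Fintype.card Φ := by
      have := Fintype.card_le_of_embedding t'
      rwa [Fintype.card_fin] at this
    let emb : (Fin k ↪ Φ) → (Fin k ↪ α) := fun u => u.trans (Function.Embedding.subtype _)
    have hQu : ∀ u : Fin k ↪ Φ, Q ≤ ptStab G (emb u) := fun u q hq =>
      mem_ptStab.mpr ⟨hQG hq, fun i => (u i).2 q hq⟩
    let Bigger : (Fin k ↪ Φ) → Prop := fun u =>
      ∃ R : Subgroup (Equiv.Perm α), R ≤ ptStab G (emb u) ∧ Q < R ∧ IsPGroup r R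
    have hNt : ∀ u v : Fin k ↪ Φ, ∃ f : N, f • u = v := by
      by_cases hall : ∀ u, Bigger u
      · -- Gleason's lemma
        refine fun u v => (multiply_transitive_of_single hkΦ ?_).exists_smul_eq u v
        intro u i y hy
        let M : Subgroup N :=
          { carrier := {f | ∀ j, j ≠ i → f • u j = u j}
            one_mem' := fun j _ => one_smul N _
            mul_mem' := fun {f f'} hf hf' j hj => by rw [mul_smul, hf' j hj, hf j hj]
            inv_mem' := fun {f} hf j hj => by rw [inv_smul_eq_iff, hf j hj] }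
        let Y := {z : Φ // ∀ j, j ≠ i → z ≠ u j}
        letI : MulAction M Y :=
          { smul := fun f z => ⟨(f : N) • z.1, fun j hj e => z.2 j hj
              (MulAction.injective (f : N) (e.trans (f.2 j hj).symm))⟩
            one_smul := fun z => Subtype.ext (one_smul N _)
            mul_smul := fun f f' z => Subtype.ext (mul_smul (f : N) (f' : N) _) }
        have hglea := gleason (G := M) (Y := Y) (r := r) (fun z => ?_)
          ⟨u i, fun j hj e => hj (u.injective e).symm⟩ ⟨y, fun j _ e => hy ⟨j, e.symm⟩⟩
        · obtain ⟨f, hf⟩ := hglea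
          exact ⟨f, congrArg Subtype.val hf, f.2⟩
        have hinj : Function.Injective fun j => if j = i then z.1 else u j := by
          intro j l e
          dsimp only at e
          split_ifs at e with h1 h2 h2
          · exact h1.trans h2.symm
          · exact absurd e (z.2 l h2)
          · exact absurd e.symm (z.2 j h1)
          · exact u.injective e
        obtain ⟨R, hRle, hRgt, hRp⟩ := hall ⟨_, hinj⟩
        set R' := R ⊓ Subgroup.normalizer (Q : Set (Equiv.Perm α)) with hR'
        have hR'fix : ∀ q ∈ R', ∀ j, q ((if j = i then z.1 else u j : Φ) : α) =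
            ((if j = i then z.1 else u j : Φ) : α) := fun q hq j => (mem_ptStab.mp (hRle hq.1)).2 j
        have hR'N : R' ≤ N := fun q hq => ⟨(hRle hq.1).1, hq.2⟩
        have hR'gt : Q < R' := by
          refine lt_of_le_of_ne (le_inf hRgt.le Subgroup.le_normalizer) fun e => ?_
          haveI : Finite R := inferInstance
          haveI : Group.IsNilpotent R := hRp.isNilpotent
          have hlt : Q.subgroupOf R < ⊤ := lt_top_iff_ne_top.mpr fun h =>
            hRgt.not_ge (Subgroup.subgroupOf_eq_top.mp h)
          obtain ⟨w, hw, hwn⟩ := SetLike.exists_of_lt (normalizerCondition_of_isNilpotent _ hlt)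
          refine hwn (Subgroup.mem_subgroupOf.mpr ?_)
          rw [e]
          refine ⟨w.2, Subgroup.mem_normalizer_iff.mpr fun q => ⟨fun hq => ?_, fun hq => ?_⟩⟩
          · exact Subgroup.mem_subgroupOf.mp
              (((Subgroup.mem_normalizer_iff).mp hw ⟨q, hRgt.le hq⟩).mp (Subgroup.mem_subgroupOf.mpr hq))
          · have hqR : q ∈ R := by
              have := mul_mem (mul_mem (inv_mem w.2) (hRgt.le hq)) w.2
              rwa [show (w : Equiv.Perm α)⁻¹ * (w * q * (w : Equiv.Perm α)⁻¹) * w = q by group] at this
            exact Subgroup.mem_subgroupOf.mp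
              (((Subgroup.mem_normalizer_iff).mp hw ⟨q, hqR⟩).mpr (Subgroup.mem_subgroupOf.mpr hq))
        refine ⟨(R'.subgroupOf N).subgroupOf M, ?_, fun w => ⟨fun hw => ?_, ?_⟩⟩
        · intro q
          obtain ⟨e, he⟩ := hRp ⟨((q : M) : N), (q.2 : ((q : M) : N).1 ∈ R').1⟩
          refine ⟨e, Subtype.ext (Subtype.ext (Subtype.ext ?_))⟩
          have he' := congrArg Subtype.val he
          simpa using he'
        · by_contra hwz
          have hinj' : Function.Injective
              (Fin.snoc (fun j => ((if j = i then z.1 else u j : Φ) : α)) (w.1 : α) : Fin (k + 1) → α) :=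
            Fin.snoc_injective_iff.mpr ⟨Subtype.val_injective.comp hinj, by
              rintro ⟨j, hj⟩
              have hj' := Subtype.ext hj
              split_ifs at hj' with h1
              · exact hwz (Subtype.ext hj'.symm)
              · exact w.2 j h1 hj'.symm⟩
          have hgood : Good R' := by
            refine ⟨fun q hq => (hRle hq.1).1, hRp.to_le inf_le_left, ⟨_, hinj'⟩, fun q hq j => ?_⟩
            simp only [Function.Embedding.coeFn_mk]
            induction j using Fin.lastCases with
            | last =>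
              rw [Fin.snoc_last]
              have hmM : (⟨q, hR'N hq⟩ : N) ∈ M := fun j hj => Subtype.ext (by
                have := hR'fix q hq j
                rw [if_neg hj] at this
                exact this)
              exact congrArg (fun y : Y => (y.1 : α)) (hw ⟨⟨q, hR'N hq⟩, hmM⟩ hq)
            | cast j => rw [Fin.snoc_castSucc]; exact hR'fix q hq j
          exact absurd (hmax' R' hgood) (not_le.mpr (lt_of_le_of_ne
            (Subgroup.card_le_of_le hR'gt.le) fun e => hR'gt.ne (Subgroup.eq_of_le_of_card_ge hR'gt.le e.ge)))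
        · rintro rfl q hq
          have := hR'fix _ hq i
          rw [if_pos rfl] at this
          exact Subtype.ext (Subtype.ext this)
      · -- Witt's lemma
        push Not at hall
        obtain ⟨u₀, hu₀⟩ := hall
        have hnone : ∀ u, ¬ Bigger u := by
          rintro u ⟨R, hRle, hRgt, hRp⟩
          obtain ⟨f, hf, hfu⟩ := exists_map hG (emb u) (emb u₀)
          set R₁ := R.map (MulAut.conj f).toMonoidHom with hR₁
          have hR₁le : R₁ ≤ ptStab G (emb u₀) := by
            rintro _ ⟨q, hq, rfl⟩
            obtain ⟨hqG, hqu⟩ := mem_ptStab.mp (hRle hq)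
            refine mem_ptStab.mpr ⟨mul_mem (mul_mem hf hqG) (inv_mem hf), fun j => ?_⟩
            show (f * q * f⁻¹) (emb u₀ j) = emb u₀ j
            rw [← hfu, Equiv.Perm.mul_apply, Equiv.Perm.mul_apply, Equiv.Perm.coe_inv,
              Equiv.symm_apply_apply, hqu]
          set S := ptStab G (emb u₀) with hS
          obtain ⟨P₀, hP₀⟩ := ((hQp.comap_subtype : IsPGroup r (Q.subgroupOf S))).exists_le_sylow
          have hP₁ : IsPGroup r (R₁.subgroupOf S) := (hRp.map _).comap_subtype
          obtain ⟨P₁, hP₁'⟩ := hP₁.exists_le_sylow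
          have hQeq : (P₀ : Subgroup S).map S.subtype = Q := by
            refine le_antisymm ?_ fun q hq => ⟨⟨q, hQu u₀ hq⟩, hP₀ hq, rfl⟩
            by_contra hne
            exact hu₀ ⟨(P₀ : Subgroup S).map S.subtype, Subgroup.map_subtype_le _,
              lt_of_le_not_ge (fun q hq => ⟨⟨q, hQu u₀ hq⟩, hP₀ hq, rfl⟩) hne, P₀.2.map _⟩
          have hRc : Nat.card R = Nat.card R₁ :=
            Nat.card_congr (R.equivMapOfInjective (MulAut.conj f).toMonoidHom (MulAut.conj f).injective).toEquiv
          have h1 : Nat.card R ≤ Nat.card Q := by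
            rw [← hQeq, Subgroup.card_map_of_injective S.subtype_injective,
              show Nat.card (P₀ : Subgroup S) = Nat.card (P₁ : Subgroup S) from
                P₀.card_eq_multiplicity.trans P₁.card_eq_multiplicity.symm,
              hRc, ← Nat.card_congr (Subgroup.subgroupOfEquivOfLe hR₁le).toEquiv]
            exact Subgroup.card_le_of_le hP₁'
          exact hRgt.ne (Subgroup.eq_of_le_of_card_ge hRgt.le h1)
        intro u v
        obtain ⟨f, hf, hfu⟩ := exists_map hG (emb u) (emb v)
        set S := ptStab G (emb v) with hS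
        set Q' := Q.map (MulAut.conj f).toMonoidHom with hQ'
        have hQ'le : Q' ≤ S := by
          rintro _ ⟨q, hq, rfl⟩
          refine mem_ptStab.mpr ⟨mul_mem (mul_mem hf (hQG hq)) (inv_mem hf), fun j => ?_⟩
          show (f * q * f⁻¹) (emb v j) = emb v j
          rw [← hfu, Equiv.Perm.mul_apply, Equiv.Perm.mul_apply, Equiv.Perm.coe_inv,
            Equiv.symm_apply_apply, (mem_ptStab.mp (hQu u hq)).2]
        let PQ : Sylow r S :=
          { toSubgroup := Q.subgroupOf S
            isPGroup' := hQp.comap_subtype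
            is_maximal' := fun {R} hR hle => by
              refine le_antisymm ?_ hle
              intro x hx
              by_contra hxQ
              refine hnone v ⟨R.map S.subtype, Subgroup.map_subtype_le _, lt_of_le_not_ge
                (fun q hq => ⟨⟨q, hQu v hq⟩, hle hq, rfl⟩) (fun h => hxQ (h ⟨x, hx, rfl⟩)), hR.map _⟩ }
        let PQ' : Sylow r S := Sylow.ofCard (Q'.subgroupOf S) (by
          rw [← PQ.card_eq_multiplicity]
          show Nat.card (Q'.subgroupOf S) = Nat.card (Q.subgroupOf S)
          rw [Nat.card_congr (Subgroup.subgroupOfEquivOfLe hQ'le).toEquiv,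
            Nat.card_congr (Subgroup.subgroupOfEquivOfLe (hQu v)).toEquiv, hQ',
            Subgroup.card_map_of_injective (MulAut.conj f).injective])
        obtain ⟨x, hx⟩ := MulAction.exists_smul_eq S PQ' PQ
        have hx' : ∀ w : S, w ∈ Q'.subgroupOf S → x * w * x⁻¹ ∈ Q.subgroupOf S := by
          intro w hw
          have h : MulAut.conj x • w ∈ ((x • PQ' : Sylow r S) : Subgroup S) := by
            rw [Sylow.coe_subgroup_smul]
            exact Subgroup.smul_mem_pointwise_smul _ _ _ (by simpa [PQ', Sylow.coe_ofCard] using hw)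
          rw [hx] at h
          simpa [MulAut.smul_def] using h
        have hmap : Q.map (MulAut.conj ((x : Equiv.Perm α) * f)).toMonoidHom ≤ Q := by
          rintro _ ⟨q, hq, rfl⟩
          have h1 : f * q * f⁻¹ ∈ Q' := ⟨q, hq, rfl⟩
          have h2 : (x : Equiv.Perm α) * (f * q * f⁻¹) * (x : Equiv.Perm α)⁻¹ ∈ Q :=
            hx' ⟨_, hQ'le h1⟩ h1
          show ((x : Equiv.Perm α) * f) * q * ((x : Equiv.Perm α) * f)⁻¹ ∈ Q
          rwa [show ((x : Equiv.Perm α) * f) * q * ((x : Equiv.Perm α) * f)⁻¹ =
            (x : Equiv.Perm α) * (f * q * f⁻¹) * (x : Equiv.Perm α)⁻¹ by group]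
        have hmapeq := Subgroup.eq_of_le_of_card_ge hmap
          (by rw [Subgroup.card_map_of_injective (MulAut.conj _).injective])
        have hmem : (x : Equiv.Perm α) * f ∈ N := by
          refine ⟨mul_mem x.2.1 hf, Subgroup.mem_normalizer_iff.mpr fun q =>
            ⟨fun hq => hmap ⟨q, hq, rfl⟩, fun hq => ?_⟩⟩
          rw [← hmapeq] at hq
          obtain ⟨q', hq', e⟩ := hq
          exact ((MulAut.conj _).injective e) ▸ hq'
        refine ⟨⟨_, hmem⟩, Function.Embedding.ext fun j => Subtype.ext ?_⟩
        rw [Function.Embedding.smul_apply, hsmul]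
        show ((x : Equiv.Perm α) * f) (emb u j) = emb v j
        rw [Equiv.Perm.mul_apply, hfu, (mem_ptStab.mp x.2).2]
    -- the group induced on the fixed points
    set G' := (MulAction.toPermHom N Φ).range with hG'
    have hG't : IsMultiplyPretransitive G' Φ k := by
      refine ⟨fun u v => ?_⟩
      obtain ⟨f, hf⟩ := hNt u v
      refine ⟨⟨_, f, rfl⟩, ?_⟩
      rw [← hf]
      exact Function.Embedding.ext fun _ => rfl
    obtain ⟨s, hs⟩ := IH _ hΦlt G' hk hkΦ hG't rfl
    refine ⟨s.trans (Function.Embedding.subtype _), hs.trans fun σ hσ => ?_⟩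
    obtain ⟨_, ⟨f, rfl⟩, hfs⟩ := mem_induced.mp hσ
    exact mem_induced.mpr ⟨f, f.2.1, fun i => congrArg Subtype.val (hfs i)⟩

end CfsgLib.Perm.SetStab
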