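import Cfsg.Agent.Lib.Perm.SetStab.Basic

/-!
# Multiply transitive groups in which no element fixes more points than the degree of transitivity

In such a group some set of `k + 1` points has a stabiliser inducing all its even permutations.
-/

set_option autoImplicit false

namespace CfsgLib.Perm.SetStab

open MulAction

variable {α : Type*} {k : ℕ}

/-- The pointwise stabiliser of a tuple. -/
def ptStab (G : Subgroup (Equiv.Perm α)) (u : Fin k ↪ α) : Subgroup (Equiv.Perm α) :=
  G ⊓ fixingSubgroup (Equiv.Perm α) (Set.range u)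

theorem mem_ptStab {G : Subgroup (Equiv.Perm α)} {u : Fin k ↪ α} {g : Equiv.Perm α} :
    g ∈ ptStab G u ↔ g ∈ G ∧ ∀ i, g (u i) = u i := by
  rw [ptStab, Subgroup.mem_inf, mem_fixingSubgroup_iff, Set.forall_mem_range]
  rfl

/-- Multiple transitivity for a group of permutations. -/
theorem exists_map {G : Subgroup (Equiv.Perm α)} (hG : IsMultiplyPretransitive G α k)
    (u v : Fin k ↪ α) : ∃ g ∈ G, ∀ i, g (u i) = v i := by
  obtain ⟨g, hg⟩ := hG.exists_smul_eq u v
  exact ⟨g, g.2, fun i => congrArg (fun e : Fin k ↪ α => e i) hg⟩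

theorem card_ptStab [Finite α] {G : Subgroup (Equiv.Perm α)} (hG : IsMultiplyPretransitive G α k)
    (u v : Fin k ↪ α) : Nat.card (ptStab G u) = Nat.card (ptStab G v) := by
  obtain ⟨g, hg, hgu⟩ := exists_map hG u v
  refine Nat.card_congr
    { toFun := fun x => ⟨g * x * g⁻¹, mem_ptStab.mpr ⟨mul_mem (mul_mem hg x.2.1) (inv_mem hg),
        fun i => ?_⟩⟩
      invFun := fun x => ⟨g⁻¹ * x * g, mem_ptStab.mpr ⟨mul_mem (mul_mem (inv_mem hg) x.2.1) hg,
        fun i => ?_⟩⟩
      left_inv := fun x => Subtype.ext (by show g⁻¹ * (g * (x : Equiv.Perm α) * g⁻¹) * g = x; group)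
      right_inv := fun x => Subtype.ext (by show g * (g⁻¹ * (x : Equiv.Perm α) * g) * g⁻¹ = x; group) }
  · rw [Equiv.Perm.mul_apply, Equiv.Perm.mul_apply, ← hgu, Equiv.Perm.coe_inv, Equiv.symm_apply_apply,
      (mem_ptStab.mp x.2).2]
  · rw [Equiv.Perm.mul_apply, Equiv.Perm.mul_apply, hgu, (mem_ptStab.mp x.2).2, ← hgu,
      Equiv.Perm.coe_inv, Equiv.symm_apply_apply]

variable [Fintype α] [DecidableEq α]

/-- Fixed points. -/
def fixSet (g : Equiv.Perm α) : Finset α := Finset.univ.filter fun x => g x = x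

theorem mem_fixSet {g : Equiv.Perm α} {x : α} : x ∈ fixSet g ↔ g x = x := by simp [fixSet]

theorem fixSet_parity {g : Equiv.Perm α} (hg : g ^ 2 = 1) :
    (fixSet g).card % 2 = Fintype.card α % 2 := by
  have h1 : 2 ∣ g.support.card := Equiv.Perm.two_dvd_card_support hg
  have h2 : fixSet g = g.supportᶜ := by ext x; simp [fixSet]
  rw [h2, Finset.card_compl]
  have := Finset.card_le_univ g.support
  omega

section Semi

variable {G : Subgroup (Equiv.Perm α)} (hG : IsMultiplyPretransitive G α k)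
  (hfree : ∀ g ∈ G, ∀ t : Fin (k + 1) ↪ α, (∀ i, g (t i) = t i) → g = 1)

omit [Fintype α] [DecidableEq α] in
include hfree in
theorem eq_one_of_fix {g : Equiv.Perm α} (hg : g ∈ G) (u : Fin k ↪ α) (hu : ∀ i, g (u i) = u i)
    {p : α} (hp : p ∉ Set.range u) (hgp : g p = p) : g = 1 := by
  refine hfree g hg ⟨Fin.snoc u p, ?_⟩ fun i => ?_
  · exact Fin.snoc_injective_iff.mpr ⟨u.injective, hp⟩
  · show g (Fin.snoc (α := fun _ => α) u p i) = Fin.snoc (α := fun _ => α) u p i
    induction i using Fin.lastCases with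
    | last => rw [Fin.snoc_last]; exact hgp
    | cast i => rw [Fin.snoc_castSucc]; exact hu i

omit hG in
include hfree in
/-- An involution fixing `k + 1` points is trivial; fixing `k` points makes the stabilisers even. -/
theorem two_dvd_of_involution {y : Equiv.Perm α} (hy : y ∈ G) (hy2 : y * y = 1) (hy1 : y ≠ 1)
    (hk : k ≤ (fixSet y).card) : ∃ u : Fin k ↪ α, 2 ∣ Nat.card (ptStab G u) := by
  obtain ⟨e⟩ : Nonempty (Fin k ↪ {x // x ∈ fixSet y}) :=
    Function.Embedding.nonempty_of_card_le (by rw [Fintype.card_fin, Fintype.card_coe]; exact hk)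
  refine ⟨e.trans (Function.Embedding.subtype _), ?_⟩
  have hmem : y ∈ ptStab G (e.trans (Function.Embedding.subtype _)) :=
    mem_ptStab.mpr ⟨hy, fun i => mem_fixSet.mp (e i).2⟩
  have h : orderOf y = 2 := orderOf_eq_prime (by rw [pow_two, hy2]) hy1
  exact h ▸ Subgroup.orderOf_dvd_natCard _ hmem

omit [Fintype α] [DecidableEq α] in
include hG in
/-- Lifts of a permutation of the entries. -/
theorem exists_lift (u : Fin k ↪ α) (σ : Equiv.Perm (Fin k)) : ∃ g ∈ G, ∀ i, g (u i) = u (σ i) :=
  exists_map hG u (σ.toEmbedding.trans u)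

include hG in
theorem exists_involution_lift (u : Fin k ↪ α) (hodd : Odd (Nat.card (ptStab G u))) {i j : Fin k}
    (hij : i ≠ j) : ∃ y ∈ G, y * y = 1 ∧ y ≠ 1 ∧ ∀ l, y (u l) = u (Equiv.swap i j l) := by
  obtain ⟨g, hg, hgu⟩ := exists_lift hG u (Equiv.swap i j)
  have hpow : ∀ (n : ℕ) l, (g ^ n) (u l) = u ((Equiv.swap i j ^ n) l) := by
    intro n
    induction n with
    | zero => intro l; rfl
    | succ n ih => intro l; rw [pow_succ', Equiv.Perm.mul_apply, ih, hgu, pow_succ']; rfl
  set h := Nat.card (ptStab G u) with hh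
  have hg2 : g * g ∈ ptStab G u := mem_ptStab.mpr ⟨mul_mem hg hg, fun l => by
    rw [Equiv.Perm.mul_apply, hgu, hgu, Equiv.swap_apply_self]⟩
  have hswap : Equiv.swap i j ^ h = Equiv.swap i j := by
    obtain ⟨r, hr⟩ := hodd
    rw [hr, pow_succ, pow_mul, pow_two, Equiv.swap_mul_self, one_pow, one_mul]
  refine ⟨g ^ h, pow_mem hg h, ?_, ?_, fun l => ?_⟩
  · have e : (⟨g * g, hg2⟩ : ptStab G u) ^ h = 1 := by rw [hh]; exact pow_card_eq_one'
    have e' := congrArg Subtype.val e
    rw [SubmonoidClass.coe_pow] at e'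
    rw [← (Commute.refl g).mul_pow]
    exact e'
  · intro e
    refine hij (u.injective ?_)
    have h1 := hpow h i
    rw [e, hswap, Equiv.swap_apply_left] at h1
    exact h1
  · rw [hpow, hswap]

include hG hfree in
/-- Even stabilisers: all transpositions are induced. -/
theorem induced_eq_top_of_even (hk : 1 ≤ k) (u₀ : Fin k ↪ α) (heven : 2 ∣ Nat.card (ptStab G u₀))
    (t : Fin (k + 1) ↪ α) : induced G t = ⊤ := by
  rw [eq_top_iff, ← Equiv.Perm.closure_isSwap, Subgroup.closure_le]
  rintro σ ⟨i, j, hij, rfl⟩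
  show Equiv.swap i j ∈ induced G t
  -- the points outside the other entries
  set Y := (Finset.univ.filter fun x : α => ∀ l, l ≠ i → l ≠ j → x ≠ t l) with hY
  have hmem : ∀ x, x ∈ Y ↔ ∀ l, l ≠ i → l ≠ j → x ≠ t l := fun x => by simp [hY]
  have hinv : ∀ d ∈ Y, ∃ z ∈ G, z * z = 1 ∧ z ≠ 1 ∧ (∀ l, l ≠ i → l ≠ j → z (t l) = t l) ∧ z d = d ∧
      ∀ x ∈ Y, z x = x → x = d := by
    intro d hd
    have hinj : Function.Injective fun l : Fin k => if j.succAbove l = i then d else t (j.succAbove l) := by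
      intro l m e
      dsimp only at e
      split_ifs at e with h1 h2 h2
      · exact Fin.succAbove_right_injective (h1.trans h2.symm)
      · exact absurd e ((hmem d).mp hd _ h2 (Fin.succAbove_ne j m))
      · exact absurd e.symm ((hmem d).mp hd _ h1 (Fin.succAbove_ne j l))
      · exact Fin.succAbove_right_injective (t.injective e)
    let u : Fin k ↪ α := ⟨_, hinj⟩
    haveI : Fact (Nat.Prime 2) := ⟨Nat.prime_two⟩
    obtain ⟨z, hz⟩ := exists_prime_orderOf_dvd_card' (G := ptStab G u) 2
      (card_ptStab hG u u₀ ▸ heven)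
    have hz2 : (z : Equiv.Perm α) * z = 1 := by
      rw [← pow_two, ← hz, ← Subgroup.orderOf_coe, pow_orderOf_eq_one]
    have hz1 : (z : Equiv.Perm α) ≠ 1 := fun e => by
      rw [← Subgroup.orderOf_coe, e, orderOf_one] at hz
      omega
    obtain ⟨hzG, hzu⟩ := mem_ptStab.mp z.2
    have hzt : ∀ l, l ≠ i → l ≠ j → (z : Equiv.Perm α) (t l) = t l := fun l hl hl' => by
      obtain ⟨m, rfl⟩ := Fin.exists_succAbove_eq hl'
      have := hzu m
      simpa [u, hl] using this
    have hzd : (z : Equiv.Perm α) d = d := by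
      obtain ⟨m, hm⟩ := Fin.exists_succAbove_eq hij
      have := hzu m
      simpa [u, hm] using this
    refine ⟨z, hzG, hz2, hz1, hzt, hzd, fun x hx hzx => ?_⟩
    by_contra hxd
    refine hz1 (eq_one_of_fix hfree hzG u hzu (p := x) ?_ hzx)
    rintro ⟨m, hm⟩
    simp only [u, Function.Embedding.coeFn_mk] at hm
    split_ifs at hm with h1
    · exact hxd hm.symm
    · exact (hmem x).mp hx _ h1 (Fin.succAbove_ne j m) hm.symm
  choose! z hzG hz2 hz1 hzt hzd hzY using hinv
  have hzmaps : ∀ d ∈ Y, ∀ x ∈ Y, z d x ∈ Y := by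
    intro d hd x hx
    rw [hmem]
    intro l hl hl' e
    have e' := congrArg (z d) e
    rw [← Equiv.Perm.mul_apply, hz2 d hd, hzt d hd l hl hl', Equiv.Perm.one_apply] at e'
    exact (hmem x).mp hx l hl hl' e'
  -- each transposition of these points comes from exactly one of the involutions
  let Φ : Y.offDiag → Y.offDiag := fun p => ⟨(p.1.2, z p.1.1 p.1.2), by
    obtain ⟨hd, hx, hne⟩ := Finset.mem_offDiag.mp p.2
    exact Finset.mem_offDiag.mpr ⟨hx, hzmaps _ hd _ hx, fun e => hne (hzY _ hd _ hx e.symm).symm⟩⟩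
  have hΦ : Function.Injective Φ := by
    rintro ⟨⟨d, x⟩, hp⟩ ⟨⟨e, y⟩, hq⟩ h
    obtain ⟨hd, hx, hne⟩ := Finset.mem_offDiag.mp hp
    obtain ⟨he, hy, hne'⟩ := Finset.mem_offDiag.mp hq
    have h' : (x, z d x) = (y, z e y) := congrArg Subtype.val h
    simp only [Prod.mk.injEq] at h'
    obtain ⟨rfl, h2⟩ := h'
    have hone : (z e)⁻¹ * z d = 1 := by
      set w := z d x with hw
      have hwx : w ≠ x := fun e' => hne (hzY d hd x hx e').symm
      have hwY := hzmaps d hd x hx
      have hdw : z d w = x := by rw [hw, ← Equiv.Perm.mul_apply, hz2 d hd]; rfl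
      have hew : z e w = x := by rw [h2, ← Equiv.Perm.mul_apply, hz2 e he]; rfl
      have hfun : Function.Injective fun l => if l = i then x else if l = j then w else t l := by
        intro l m e'
        dsimp only at e'
        split_ifs at e' with a1 a2 a3 a4 a5 a6 a7 a8
        all_goals first
          | exact a1.trans a2.symm
          | (subst_vars; rfl)
          | exact t.injective e'
          | exact absurd e' hwx
          | exact absurd e'.symm hwx
          | exact absurd e' ((hmem x).mp hx _ (by assumption) (by assumption))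
          | exact absurd e'.symm ((hmem x).mp hx _ (by assumption) (by assumption))
          | exact absurd e' ((hmem w).mp hwY _ (by assumption) (by assumption))
          | exact absurd e'.symm ((hmem w).mp hwY _ (by assumption) (by assumption))
      refine hfree _ (mul_mem (inv_mem (hzG e he)) (hzG d hd)) ⟨_, hfun⟩ fun l => ?_
      simp only [Function.Embedding.coeFn_mk]
      rw [Equiv.Perm.mul_apply, Equiv.Perm.inv_eq_iff_eq]
      split_ifs with a1 a2
      · exact h2
      · rw [hdw, hew]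
      · rw [hzt d hd l a1 a2, hzt e he l a1 a2]
    have hde : z e = z d := inv_mul_eq_one.mp hone
    have hde' : d = e := (hzY d hd e he (by rw [← hde]; exact hzd e he)).symm
    subst hde'
    rfl
  have hti : t i ∈ Y := (hmem _).mpr fun l hl _ e => hl (t.injective e).symm
  have htj : t j ∈ Y := (hmem _).mpr fun l _ hl e => hl (t.injective e).symm
  obtain ⟨⟨⟨d, x⟩, hp⟩, hpe⟩ := (Finite.injective_iff_bijective.mp hΦ).2
    ⟨(t i, t j), Finset.mem_offDiag.mpr ⟨hti, htj, fun e => hij (t.injective e)⟩⟩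
  have hd := (Finset.mem_offDiag.mp hp).1
  have h' : (x, z d x) = (t i, t j) := congrArg Subtype.val hpe
  simp only [Prod.mk.injEq] at h'
  obtain ⟨rfl, h2⟩ := h'
  refine mem_induced.mpr ⟨z d, hzG d hd, fun l => ?_⟩
  rcases eq_or_ne l i with rfl | hli
  · rw [Equiv.swap_apply_left]; exact h2
  rcases eq_or_ne l j with rfl | hlj
  · rw [Equiv.swap_apply_right, ← h2, ← Equiv.Perm.mul_apply, hz2 d hd]; rfl
  · rw [Equiv.swap_apply_of_ne_of_ne hli hlj]; exact hzt d hd l hli hlj

include hG hfree in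
/-- Odd stabilisers and `n - k` odd: some tuple has all transpositions induced. -/
theorem exists_top_of_odd (hk : 4 ≤ k) (hkn : k < Fintype.card α)
    (hodd : ∀ u : Fin k ↪ α, Odd (Nat.card (ptStab G u)))
    (hpar : Odd (Fintype.card α - k)) : ∃ t : Fin (k + 1) ↪ α, induced G t = ⊤ := by
  classical
  have hfix : ∀ y ∈ G, y * y = 1 → y ≠ 1 → (fixSet y).card < k := by
    intro y hy h2 h1
    by_contra h
    push Not at h
    obtain ⟨u, hu⟩ := two_dvd_of_involution hfree hy h2 h1 h
    exact Nat.not_even_iff_odd.mpr (hodd u) (even_iff_two_dvd.mpr hu)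
  -- the points fixed by lifts of a transposition
  let O : (Fin k ↪ α) → Equiv.Perm (Fin k) → Finset α := fun u σ =>
    Finset.univ.filter fun p => p ∉ Set.range u ∧ ∃ g ∈ G, (∀ l, g (u l) = u (σ l)) ∧ g p = p
  have hO : ∀ u σ p, p ∈ O u σ ↔ p ∉ Set.range u ∧ ∃ g ∈ G, (∀ l, g (u l) = u (σ l)) ∧ g p = p :=
    fun u σ p => by simp [O]
  have hsq : ∀ (u : Fin k ↪ α) (σ : Equiv.Perm (Fin k)) (g : Equiv.Perm α) (p : α), σ * σ = 1 →
      g ∈ G → (∀ l, g (u l) = u (σ l)) → p ∉ Set.range u → g p = p → g * g = 1 := by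
    intro u σ g p hσ hg hgu hp hgp
    refine eq_one_of_fix hfree (mul_mem hg hg) u (fun l => ?_) hp ?_
    · rw [Equiv.Perm.mul_apply, hgu, hgu, ← Equiv.Perm.mul_apply σ σ, hσ]; rfl
    · rw [Equiv.Perm.mul_apply, hgp, hgp]
  have hcount : ∀ (u : Fin k ↪ α) (i j : Fin k), i ≠ j →
      (∀ p ∈ O u (Equiv.swap i j), ∀ x ∈ ptStab G u, x p ∈ O u (Equiv.swap i j)) ∧
      (O u (Equiv.swap i j)).card ≤ Nat.card (ptStab G u) ∧ (O u (Equiv.swap i j)).Nonempty := by
    intro u i j hij
    have hnp : ∀ (g : Equiv.Perm α) (q q' : α), (∀ l, g (u l) = u (Equiv.swap i j l)) →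
        q ∉ Set.range u → q' ∉ Set.range u → q ≠ q' → g q = q → g q' = q' → k ≤ (fixSet g).card := by
      intro g q q' hgu hq hq' hne hgq hgq'
      have hsub : insert q (insert q' (((Finset.univ.erase i).erase j).map u)) ⊆ fixSet g := by
        intro x hx
        rw [mem_fixSet]
        simp only [Finset.mem_insert, Finset.mem_map, Finset.mem_erase, Finset.mem_univ, and_true] at hx
        rcases hx with rfl | rfl | ⟨l, ⟨hlj, hli⟩, rfl⟩
        · exact hgq
        · exact hgq'
        · rw [hgu, Equiv.swap_apply_of_ne_of_ne hli hlj]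
      refine le_trans ?_ (Finset.card_le_card hsub)
      rw [Finset.card_insert_of_notMem, Finset.card_insert_of_notMem, Finset.card_map,
        Finset.card_erase_of_mem (Finset.mem_erase.mpr ⟨hij.symm, Finset.mem_univ j⟩),
        Finset.card_erase_of_mem (Finset.mem_univ i), Finset.card_univ, Fintype.card_fin]
      · omega
      · intro h; obtain ⟨l, -, e⟩ := Finset.mem_map.mp h; exact hq' ⟨l, e⟩
      · intro h
        rcases Finset.mem_insert.mp h with h | h
        · exact hne h
        · obtain ⟨l, -, e⟩ := Finset.mem_map.mp h; exact hq ⟨l, e⟩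
    refine ⟨fun p hp x hx => ?_, ?_, ?_⟩
    · obtain ⟨hpr, g, hg, hgu, hgp⟩ := (hO _ _ _).mp hp
      obtain ⟨hxG, hxu⟩ := mem_ptStab.mp hx
      refine (hO _ _ _).mpr ⟨fun ⟨l, e⟩ => hpr ⟨l, x.injective ((hxu l).trans e)⟩,
        x * g * x⁻¹, mul_mem (mul_mem hxG hg) (inv_mem hxG), fun l => ?_, ?_⟩
      · rw [Equiv.Perm.mul_apply, Equiv.Perm.mul_apply, Equiv.Perm.inv_eq_iff_eq.mpr (hxu l).symm,
          hgu, hxu]
      · rw [Equiv.Perm.mul_apply, Equiv.Perm.mul_apply, Equiv.Perm.coe_inv, Equiv.symm_apply_apply, hgp]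
    · obtain ⟨g₀, hg₀, hg₀u⟩ := exists_lift hG u (Equiv.swap i j)
      have hall : ∀ p ∈ O u (Equiv.swap i j), ∃ g, p ∉ Set.range u ∧ g ∈ G ∧
          (∀ l, g (u l) = u (Equiv.swap i j l)) ∧ g p = p := fun p hp => by
        obtain ⟨hpr, g, hg, hgu, hgp⟩ := (hO _ _ _).mp hp
        exact ⟨g, hpr, hg, hgu, hgp⟩
      choose! g hpr hg hgu hgp using hall
      rw [← Nat.card_eq_finsetCard]
      refine Nat.card_le_card_of_injective (fun p : O u (Equiv.swap i j) =>
        (⟨g₀⁻¹ * g p, mem_ptStab.mpr ⟨mul_mem (inv_mem hg₀) (hg p p.2), fun l => by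
          rw [Equiv.Perm.mul_apply, hgu p p.2, Equiv.Perm.inv_eq_iff_eq, hg₀u]⟩⟩ : ptStab G u)) ?_
      rintro ⟨p, hp⟩ ⟨q, hq⟩ e
      have e' : g p = g q := mul_left_cancel (congrArg Subtype.val e)
      by_contra hne
      have h2 := hsq u _ (g p) p (Equiv.swap_mul_self i j) (hg p hp) (hgu p hp) (hpr p hp) (hgp p hp)
      have h1 : g p ≠ 1 := fun h => hij (u.injective (by
        have := hgu p hp i
        rwa [h, Equiv.swap_apply_left] at this))
      have h3 := hnp (g p) p q (hgu p hp) (hpr p hp) (hpr q hq) (fun e => hne (Subtype.ext e)) (hgp p hp)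
        (by rw [e']; exact hgp q hq)
      exact absurd h3 (not_le.mpr (hfix _ (hg p hp) h2 h1))
    · obtain ⟨y, hy, hy2, hy1, hyu⟩ := exists_involution_lift hG u (hodd u) hij
      by_contra hne
      rw [Finset.not_nonempty_iff_eq_empty] at hne
      have hlt := hfix y hy hy2 hy1
      have hfs : fixSet y = ((Finset.univ.erase i).erase j).map u := by
        ext x
        rw [mem_fixSet, Finset.mem_map]
        constructor
        · intro hx
          by_cases hxr : x ∈ Set.range u
          · obtain ⟨l, rfl⟩ := hxr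
            refine ⟨l, ?_, rfl⟩
            rw [hyu] at hx
            have hx' := u.injective hx
            simp only [Finset.mem_erase, Finset.mem_univ, and_true]
            constructor <;> rintro rfl <;> simp [hij, hij.symm] at hx'
          · exact absurd ((hO u _ x).mpr ⟨hxr, y, hy, hyu, hx⟩) (hne ▸ Finset.notMem_empty x)
        · rintro ⟨l, hl, rfl⟩
          simp only [Finset.mem_erase, Finset.mem_univ, and_true] at hl
          rw [hyu, Equiv.swap_apply_of_ne_of_ne hl.2 hl.1]
      have hp := fixSet_parity (by rw [pow_two, hy2] : y ^ 2 = 1)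
      rw [hfs, Finset.card_map, Finset.card_erase_of_mem (Finset.mem_erase.mpr ⟨hij.symm, Finset.mem_univ j⟩),
        Finset.card_erase_of_mem (Finset.mem_univ i), Finset.card_univ, Fintype.card_fin] at hp
      obtain ⟨r, hr⟩ := hpar
      omega
  -- disjoint transpositions fix a common point
  have hdisj : ∀ (u : Fin k ↪ α) (i j l m : Fin k), i ≠ j → l ≠ m → i ≠ l → i ≠ m → j ≠ l → j ≠ m →
      ∀ p ∈ O u (Equiv.swap i j), ∃ g ∈ G, (∀ s, g (u s) = u (Equiv.swap l m s)) ∧ g p = p := by
    intro u i j l m hij hlm hil him hjl hjm p hp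
    obtain ⟨hinvar, hle, -⟩ := hcount u i j hij
    have hpr := ((hO _ _ _).mp hp).1
    have hbij : Function.Bijective fun x : ptStab G u =>
        (⟨(x : Equiv.Perm α) p, hinvar p hp x x.2⟩ : O u (Equiv.swap i j)) := by
      have hinj : Function.Injective fun x : ptStab G u =>
          (⟨(x : Equiv.Perm α) p, hinvar p hp x x.2⟩ : O u (Equiv.swap i j)) := by
        intro x x' e
        have e' : (x : Equiv.Perm α) p = (x' : Equiv.Perm α) p := congrArg Subtype.val e
        refine Subtype.ext (inv_mul_eq_one.mp (eq_one_of_fix hfree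
          (mul_mem (inv_mem x'.2.1) x.2.1) u (fun s => ?_) hpr ?_)).symm
        · rw [Equiv.Perm.mul_apply, (mem_ptStab.mp x.2).2, Equiv.Perm.inv_eq_iff_eq, (mem_ptStab.mp x'.2).2]
        · rw [Equiv.Perm.mul_apply, e', Equiv.Perm.coe_inv, Equiv.symm_apply_apply]
      refine (Nat.bijective_iff_injective_and_card _).mpr ⟨hinj, ?_⟩
      exact le_antisymm (Nat.card_le_card_of_injective _ hinj) (by rwa [Nat.card_eq_finsetCard])
    obtain ⟨y, hy, hy2, -, hyu⟩ := exists_involution_lift hG u (hodd u) hlm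
    have hyO : ∀ q ∈ O u (Equiv.swap i j), y q ∈ O u (Equiv.swap i j) := by
      intro q hq
      obtain ⟨hqr, g, hg, hgu, hgq⟩ := (hO _ _ _).mp hq
      have hyy : ∀ x, y (y x) = x := fun x => by rw [← Equiv.Perm.mul_apply, hy2]; rfl
      refine (hO _ _ _).mpr ⟨?_, y * g * y, mul_mem (mul_mem hy hg) hy, fun s => ?_, ?_⟩
      · rintro ⟨s, e⟩
        exact hqr ⟨Equiv.swap l m s, by rw [← hyu, e, hyy]⟩
      · rw [Equiv.Perm.mul_apply, Equiv.Perm.mul_apply, hyu, hgu, hyu]
        congr 1
        rcases eq_or_ne s l with rfl | hsl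
        · simp [hil.symm, hjl.symm, him.symm, hjm.symm, Equiv.swap_apply_of_ne_of_ne]
        rcases eq_or_ne s m with rfl | hsm
        · simp [hil.symm, hjl.symm, him.symm, hjm.symm, Equiv.swap_apply_of_ne_of_ne]
        rw [Equiv.swap_apply_of_ne_of_ne hsl hsm]
        rcases eq_or_ne s i with rfl | hsi
        · simp [hjl, hjm, Equiv.swap_apply_of_ne_of_ne]
        rcases eq_or_ne s j with rfl | hsj
        · simp [hil, him, Equiv.swap_apply_of_ne_of_ne]
        rw [Equiv.swap_apply_of_ne_of_ne hsi hsj, Equiv.swap_apply_of_ne_of_ne hsl hsm]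
      · rw [Equiv.Perm.mul_apply, Equiv.Perm.mul_apply, hyy, hgq]
    -- an involution of a set of odd size has a fixed point
    obtain ⟨q, hq, hyq⟩ : ∃ q ∈ O u (Equiv.swap i j), y q = q := by
      by_contra hall
      push Not at hall
      have hyy : ∀ x, y (y x) = x := fun x => by rw [← Equiv.Perm.mul_apply, hy2]; rfl
      let τ : Equiv.Perm (O u (Equiv.swap i j)) :=
        { toFun := fun q => ⟨y q, hyO q q.2⟩
          invFun := fun q => ⟨y q, hyO q q.2⟩
          left_inv := fun q => Subtype.ext (hyy q)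
          right_inv := fun q => Subtype.ext (hyy q) }
      have h2 := Equiv.Perm.two_dvd_card_support (σ := τ) (by
        rw [pow_two]; exact Equiv.ext fun q => Subtype.ext (hyy q))
      have hs : τ.support = Finset.univ := Finset.eq_univ_iff_forall.mpr fun q =>
        Equiv.Perm.mem_support.mpr fun e => hall q q.2 (congrArg Subtype.val e)
      rw [hs, Finset.card_univ, ← Nat.card_eq_fintype_card, ← Nat.card_congr (Equiv.ofBijective _ hbij)] at h2
      exact Nat.not_even_iff_odd.mpr (hodd u) (even_iff_two_dvd.mpr h2)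
    obtain ⟨⟨x, hx⟩, hxp⟩ := hbij.2 ⟨q, hq⟩
    have hxp' : x p = q := congrArg Subtype.val hxp
    obtain ⟨hxG, hxu⟩ := mem_ptStab.mp hx
    refine ⟨x⁻¹ * y * x, mul_mem (mul_mem (inv_mem hxG) hy) hxG, fun s => ?_, ?_⟩
    · rw [Equiv.Perm.mul_apply, Equiv.Perm.mul_apply, hxu, hyu, Equiv.Perm.inv_eq_iff_eq, hxu]
    · rw [Equiv.Perm.mul_apply, Equiv.Perm.mul_apply, hxp', hyq, Equiv.Perm.inv_eq_iff_eq, hxp']
  -- a tuple
  obtain ⟨u⟩ : Nonempty (Fin k ↪ α) :=
    Function.Embedding.nonempty_of_card_le (by rw [Fintype.card_fin]; omega)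
  have h01 : (⟨0, by omega⟩ : Fin k) ≠ ⟨1, by omega⟩ := by simp
  obtain ⟨p, hp⟩ := (hcount u _ _ h01).2.2
  obtain ⟨hpr, g, hg, hgu, hgp⟩ := (hO _ _ _).mp hp
  let t : Fin (k + 1) ↪ α := ⟨Fin.snoc u p, Fin.snoc_injective_iff.mpr ⟨u.injective, hpr⟩⟩
  have htc : ∀ s, t (Fin.castSucc s) = u s := fun s => Fin.snoc_castSucc (α := fun _ => α) p u s
  have htl : t (Fin.last k) = p := Fin.snoc_last (α := fun _ => α) p u
  refine ⟨t, swap_mem_of_disjoint_step (by omega) _ ?_ (i := Fin.castSucc ⟨0, by omega⟩)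
    (j := Fin.castSucc ⟨1, by omega⟩) (by simpa using h01) ?_⟩
  · intro i j l m hij hlm hil him hjl hjm h
    obtain ⟨o, ho⟩ : ∃ o, o ∉ ({i, j, l, m} : Finset (Fin (k + 1))) := by
      by_contra hall
      push Not at hall
      have h1 := Finset.card_le_card (fun x (_ : x ∈ (Finset.univ : Finset (Fin (k + 1)))) => hall x)
      rw [Finset.card_univ, Fintype.card_fin] at h1
      have := h1.trans Finset.card_le_four
      omega
    simp only [Finset.mem_insert, Finset.mem_singleton, not_or] at ho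
    obtain ⟨i', rfl⟩ := Fin.exists_succAbove_eq (Ne.symm ho.1)
    obtain ⟨j', rfl⟩ := Fin.exists_succAbove_eq (Ne.symm ho.2.1)
    obtain ⟨l', rfl⟩ := Fin.exists_succAbove_eq (Ne.symm ho.2.2.1)
    obtain ⟨m', rfl⟩ := Fin.exists_succAbove_eq (Ne.symm ho.2.2.2)
    have inj := Fin.succAbove_right_injective (p := o)
    let u' : Fin k ↪ α := ⟨fun s => t (o.succAbove s), t.injective.comp inj⟩
    obtain ⟨g, hg, hgt⟩ := mem_induced.mp h
    have hto : t o ∉ Set.range u' := fun ⟨s, e⟩ => Fin.succAbove_ne o s (t.injective e)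
    have hswapo : ∀ a b : Fin k, Equiv.swap (o.succAbove a) (o.succAbove b) o = o := fun a b =>
      Equiv.swap_apply_of_ne_of_ne (Fin.succAbove_ne o a).symm (Fin.succAbove_ne o b).symm
    have hswaps : ∀ a b s : Fin k, Equiv.swap (o.succAbove a) (o.succAbove b) (o.succAbove s) =
        o.succAbove (Equiv.swap a b s) := fun a b s => (Function.Injective.swap_apply inj a b s)
    have hpO : t o ∈ O u' (Equiv.swap i' j') := (hO _ _ _).mpr ⟨hto, g, hg,
      fun s => by show g (t _) = t _; rw [hgt, hswaps], by rw [hgt, hswapo]⟩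
    obtain ⟨f, hf, hfu, hfp⟩ := hdisj u' i' j' l' m' (fun e => hij (by rw [e]))
      (fun e => hlm (by rw [e])) (fun e => hil (by rw [e])) (fun e => him (by rw [e]))
      (fun e => hjl (by rw [e])) (fun e => hjm (by rw [e])) _ hpO
    refine mem_induced.mpr ⟨f, hf, fun s => ?_⟩
    rcases eq_or_ne s o with rfl | hs
    · rw [hswapo, hfp]
    obtain ⟨s', rfl⟩ := Fin.exists_succAbove_eq hs
    rw [hswaps]
    exact hfu s'
  · refine mem_induced.mpr ⟨g, hg, fun s => ?_⟩
    induction s using Fin.lastCases with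
    | last =>
      rw [Equiv.swap_apply_of_ne_of_ne (Fin.castSucc_lt_last _).ne' (Fin.castSucc_lt_last _).ne', htl, hgp]
    | cast s => rw [Function.Injective.swap_apply (Fin.castSucc_injective k), htc, htc, hgu]

include hG hfree in
/-- Odd stabilisers and `n - k` even: the degree is bounded by twice the stabiliser. -/
theorem sub_le_two_mul_of_even_diff (hk : 4 ≤ k)
    (hodd : ∀ u : Fin k ↪ α, Odd (Nat.card (ptStab G u)))
    (hpar : Even (Fintype.card α - k)) (v : Fin k ↪ α) :
    Fintype.card α - k ≤ 2 * Nat.card (ptStab G v) := by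
  classical
  have hfix : ∀ y ∈ G, y * y = 1 → y ≠ 1 → (fixSet y).card < k := by
    intro y hy h2 h1
    by_contra h
    push Not at h
    obtain ⟨u, hu⟩ := two_dvd_of_involution hfree hy h2 h1 h
    exact Nat.not_even_iff_odd.mpr (hodd u) (even_iff_two_dvd.mpr hu)
  have hkn : k ≤ Fintype.card α := by simpa using Fintype.card_le_of_embedding v
  set h := Nat.card (ptStab G v) with hh
  have hh' : ∀ u, Nat.card (ptStab G u) = h := fun u => card_ptStab hG u v
  have hi : ∀ a : ℕ, a < 4 → a < k := fun a ha => by omega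
  set i : Fin k := ⟨0, hi 0 (by omega)⟩
  set j : Fin k := ⟨1, hi 1 (by omega)⟩
  set l : Fin k := ⟨2, hi 2 (by omega)⟩
  set m : Fin k := ⟨3, hi 3 (by omega)⟩
  have hij : i ≠ j := by simp [i, j]
  have hlm : l ≠ m := by simp [l, m]
  have hil : i ≠ l := by simp [i, l]
  have him : i ≠ m := by simp [i, m]
  have hjl : j ≠ l := by simp [j, l]
  have hjm : j ≠ m := by simp [j, m]
  set W := Finset.univ.filter fun x : α => ∀ s, s ≠ l → s ≠ m → x ≠ v s with hW
  have hmW : ∀ x, x ∈ W ↔ ∀ s, s ≠ l → s ≠ m → x ≠ v s := fun x => by simp [hW]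
  have hWc : W.card = Fintype.card α - k + 2 := by
    have e : W = (((Finset.univ.erase l).erase m).map v)ᶜ := by
      ext x
      rw [hmW, Finset.mem_compl, Finset.mem_map]
      constructor
      · rintro hx ⟨s, hs, rfl⟩
        simp only [Finset.mem_erase, Finset.mem_univ, and_true] at hs
        exact hx s hs.2 hs.1 rfl
      · intro hx s hsl hsm e
        exact hx ⟨s, by simp [hsl, hsm], e.symm⟩
    rw [e, Finset.card_compl, Finset.card_map,
      Finset.card_erase_of_mem (Finset.mem_erase.mpr ⟨hlm.symm, Finset.mem_univ m⟩),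
      Finset.card_erase_of_mem (Finset.mem_univ l), Finset.card_univ, Fintype.card_fin]
    omega
  -- tuples with two entries replaced
  have hrepl : ∀ a b, (a, b) ∈ W.offDiag → ∃ u : Fin k ↪ α, u l = a ∧ u m = b ∧
      ∀ s, s ≠ l → s ≠ m → u s = v s := by
    intro a b hab
    obtain ⟨ha, hb, hne⟩ := Finset.mem_offDiag.mp hab
    refine ⟨⟨fun s => if s = l then a else if s = m then b else v s, ?_⟩,
      show (if l = l then a else if l = m then b else v l) = a from if_pos rfl,
      show (if m = l then a else if m = m then b else v m) = b by rw [if_neg hlm.symm, if_pos rfl],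
      fun s h1 h2 => show (if s = l then a else if s = m then b else v s) = v s by
        rw [if_neg h1, if_neg h2]⟩
    intro x y e
    dsimp only at e
    split_ifs at e with a1 a2 a3 a4 a5 a6 a7 a8
    all_goals first
      | exact a1.trans a2.symm
      | (subst_vars; rfl)
      | exact v.injective e
      | exact absurd e hne
      | exact absurd e.symm hne
      | exact absurd e ((hmW a).mp ha _ (by assumption) (by assumption))
      | exact absurd e.symm ((hmW a).mp ha _ (by assumption) (by assumption))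
      | exact absurd e ((hmW b).mp hb _ (by assumption) (by assumption))
      | exact absurd e.symm ((hmW b).mp hb _ (by assumption) (by assumption))
  -- involutions exchanging `v i` and `v j`, fixing the rest of the entries but two
  set L := Finset.univ.filter fun y : Equiv.Perm α => y ∈ G ∧ y * y = 1 ∧ y (v i) = v j ∧
    y (v j) = v i ∧ (∀ s, s ≠ l → s ≠ m → s ≠ i → s ≠ j → y (v s) = v s) ∧
    (W.filter fun x => y x = x).card = 2 with hL
  have hlift : ∀ p ∈ W.offDiag, ∃ y ∈ L, y p.1 = p.1 ∧ y p.2 = p.2 := by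
    rintro ⟨a, b⟩ hab
    obtain ⟨u, hua, hub, hus⟩ := hrepl a b hab
    obtain ⟨y, hy, hy2, hy1, hyu⟩ := exists_involution_lift hG u (hodd u) hij
    have hyi : y (v i) = v j := by
      rw [← hus i hil him, ← hus j hjl hjm, hyu, Equiv.swap_apply_left]
    have hyj : y (v j) = v i := by
      rw [← hus i hil him, ← hus j hjl hjm, hyu, Equiv.swap_apply_right]
    have hys : ∀ s, s ≠ l → s ≠ m → s ≠ i → s ≠ j → y (v s) = v s := fun s h1 h2 h3 h4 => by
      rw [← hus s h1 h2, hyu, Equiv.swap_apply_of_ne_of_ne h3 h4]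
    have hya : y a = a := by rw [← hua, hyu, Equiv.swap_apply_of_ne_of_ne hil.symm hjl.symm]
    have hyb : y b = b := by rw [← hub, hyu, Equiv.swap_apply_of_ne_of_ne him.symm hjm.symm]
    obtain ⟨ha, hb, hne⟩ := Finset.mem_offDiag.mp hab
    refine ⟨y, ?_, hya, hyb⟩
    simp only [hL, Finset.mem_filter, Finset.mem_univ, true_and]
    refine ⟨hy, hy2, hyi, hyj, hys, ?_⟩
    set T := ((((Finset.univ.erase l).erase m).erase i).erase j).map v with hT
    have hTmem : ∀ x, x ∈ T ↔ ∃ s, s ≠ l ∧ s ≠ m ∧ s ≠ i ∧ s ≠ j ∧ v s = x := fun x => by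
      simp only [hT, Finset.mem_map, Finset.mem_erase, Finset.mem_univ, and_true]
      exact ⟨fun ⟨s, h, e⟩ => ⟨s, h.2.2.2, h.2.2.1, h.2.1, h.1, e⟩,
        fun ⟨s, h1, h2, h3, h4, e⟩ => ⟨s, ⟨h4, h3, h2, h1⟩, e⟩⟩
    have hdis : Disjoint T (W.filter fun x => y x = x) := by
      rw [Finset.disjoint_left]
      intro x hx hx'
      obtain ⟨s, h1, h2, -, -, rfl⟩ := (hTmem x).mp hx
      exact (hmW _).mp (Finset.mem_filter.mp hx').1 s h1 h2 rfl
    have hfs : fixSet y = T ∪ W.filter fun x => y x = x := by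
      ext x
      rw [mem_fixSet, Finset.mem_union, Finset.mem_filter, hTmem]
      constructor
      · intro hx
        by_cases hxW : x ∈ W
        · exact Or.inr ⟨hxW, hx⟩
        · rw [hmW] at hxW
          push Not at hxW
          obtain ⟨s, h1, h2, rfl⟩ := hxW
          refine Or.inl ⟨s, h1, h2, ?_, ?_, rfl⟩
          · rintro rfl; rw [hyi] at hx; exact hij (v.injective hx).symm
          · rintro rfl; rw [hyj] at hx; exact hij (v.injective hx)
      · rintro (⟨s, h1, h2, h3, h4, rfl⟩ | ⟨-, hx⟩)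
        · exact hys s h1 h2 h3 h4
        · exact hx
    have h2 : 2 ≤ (W.filter fun x => y x = x).card :=
      (Finset.card_pair hne).symm.le.trans (Finset.card_le_card (by
        intro x hx
        rcases Finset.mem_insert.mp hx with rfl | hx
        · exact Finset.mem_filter.mpr ⟨ha, hya⟩
        · rw [Finset.mem_singleton] at hx; subst hx; exact Finset.mem_filter.mpr ⟨hb, hyb⟩))
    have hlt := hfix y hy hy2 hy1
    have hp := fixSet_parity (by rw [pow_two, hy2] : y ^ 2 = 1)
    rw [hfs, Finset.card_union_of_disjoint hdis] at hlt hp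
    have hTc : T.card = k - 4 := by
      rw [hT, Finset.card_map, Finset.card_erase_of_mem, Finset.card_erase_of_mem,
        Finset.card_erase_of_mem, Finset.card_erase_of_mem (Finset.mem_univ l), Finset.card_univ,
        Fintype.card_fin]
      all_goals first
        | omega
        | simp [hij.symm, hjl, hjm, hil, him, hlm.symm]
    obtain ⟨r, hr⟩ := hpar
    omega
  -- lower bound on the number of involutions
  have hlow : W.offDiag.card ≤ 2 * L.card := by
    choose f hf hf1 hf2 using hlift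
    refine (Finset.card_le_mul_card_image_of_maps_to
      (f := fun p => if hp : p ∈ W.offDiag then f p hp else 1) (t := L)
      (fun p hp => by rw [dif_pos hp]; exact hf p hp) 2 fun y hy => ?_)
    obtain ⟨-, -, -, -, -, -, hy2⟩ := Finset.mem_filter.mp hy
    calc _ ≤ (W.filter fun x => y x = x).offDiag.card := Finset.card_le_card (by
          rintro ⟨a, b⟩ hp0
          obtain ⟨hp, e⟩ := Finset.mem_filter.mp hp0
          rw [dif_pos hp] at e
          subst e
          obtain ⟨ha, hb, hne⟩ := Finset.mem_offDiag.mp hp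
          exact Finset.mem_offDiag.mpr ⟨Finset.mem_filter.mpr ⟨ha, hf1 _ hp⟩,
            Finset.mem_filter.mpr ⟨hb, hf2 _ hp⟩, hne⟩)
      _ = 2 := by rw [Finset.offDiag_card, hy2]
  -- upper bound
  have hup : L.card * (W.card - 2) ≤ h * W.offDiag.card := by
    have e1 : L.card * (W.card - 2) = (L.sigma fun y => W.filter fun x => y x ≠ x).card := by
      rw [Finset.card_sigma, ← smul_eq_mul, ← Finset.sum_const]
      refine Finset.sum_congr rfl fun y hy => ?_
      have h1 := Finset.card_filter_add_card_filter_not (s := W) (fun x => y x = x)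
      obtain ⟨-, -, -, -, -, -, hy2⟩ := Finset.mem_filter.mp hy
      rw [hy2] at h1
      simp only [ne_eq]
      omega
    rw [e1]
    refine Finset.card_le_mul_card_image_of_maps_to (f := fun q => (q.2, q.1 q.2))
      (t := W.offDiag) (fun q hq => ?_) h fun p hp => ?_
    · obtain ⟨hq1, hq2⟩ := Finset.mem_sigma.mp hq
      obtain ⟨hqW, hne⟩ := Finset.mem_filter.mp hq2
      obtain ⟨-, -, hy2, hyi, hyj, hys, -⟩ := Finset.mem_filter.mp hq1
      refine Finset.mem_offDiag.mpr ⟨hqW, (hmW _).mpr fun s h1 h2 e => ?_, Ne.symm hne⟩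
      have hyy : q.1 (q.1 q.2) = q.2 := by rw [← Equiv.Perm.mul_apply, hy2]; rfl
      change q.1 q.2 = v s at e
      rw [e] at hyy
      rcases eq_or_ne s i with rfl | h3
      · exact (hmW _).mp hqW j hjl hjm (hyy.symm.trans hyi)
      rcases eq_or_ne s j with rfl | h4
      · exact (hmW _).mp hqW i hil him (hyy.symm.trans hyj)
      exact (hmW _).mp hqW s h1 h2 (hyy.symm.trans (hys s h1 h2 h3 h4))
    · obtain ⟨a, b⟩ := p
      obtain ⟨u, hua, hub, hus⟩ := hrepl a b hp
      by_cases hne : ((L.sigma fun y => W.filter fun x => y x ≠ x).filter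
          fun q => (q.2, q.1 q.2) = (a, b)).Nonempty
      · obtain ⟨q₀, hq₀⟩ := hne
        have hfact : ∀ q ∈ (L.sigma fun y => W.filter fun x => y x ≠ x).filter
            (fun q => (q.2, q.1 q.2) = (a, b)), q.2 = a ∧ q.1 ∈ G ∧ q.1 a = b ∧ q.1 b = a ∧
              q.1 (v i) = v j ∧ q.1 (v j) = v i ∧
              ∀ s, s ≠ l → s ≠ m → s ≠ i → s ≠ j → q.1 (v s) = v s := by
          intro q hq
          obtain ⟨hq, e⟩ := Finset.mem_filter.mp hq
          obtain ⟨-, hyG, hy2, hyi, hyj, hys, -⟩ := Finset.mem_filter.mp (Finset.mem_sigma.mp hq).1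
          simp only [Prod.mk.injEq] at e
          obtain ⟨e1, e2⟩ := e
          rw [e1] at e2
          exact ⟨e1, hyG, e2, by rw [← e2, ← Equiv.Perm.mul_apply, hy2]; rfl, hyi, hyj, hys⟩
        obtain ⟨-, h0G, h0a, h0b, h0i, h0j, h0s⟩ := hfact q₀ hq₀
        have hmem : ∀ q ∈ (L.sigma fun y => W.filter fun x => y x ≠ x).filter
            (fun q => (q.2, q.1 q.2) = (a, b)), q₀.1⁻¹ * q.1 ∈ ptStab G u := by
          intro q hq
          obtain ⟨-, hG', hqa, hqb, hqi, hqj, hqs⟩ := hfact q hq
          refine mem_ptStab.mpr ⟨mul_mem (inv_mem h0G) hG', fun s => ?_⟩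
          rw [Equiv.Perm.mul_apply, Equiv.Perm.inv_eq_iff_eq]
          rcases eq_or_ne s l with rfl | h1
          · rw [hua, hqa, h0a]
          rcases eq_or_ne s m with rfl | h2
          · rw [hub, hqb, h0b]
          rw [hus s h1 h2]
          rcases eq_or_ne s i with rfl | h3
          · rw [hqi, h0i]
          rcases eq_or_ne s j with rfl | h4
          · rw [hqj, h0j]
          rw [hqs s h1 h2 h3 h4, h0s s h1 h2 h3 h4]
        rw [← hh' u, ← Nat.card_eq_finsetCard]
        refine Nat.card_le_card_of_injective (fun q => (⟨q₀.1⁻¹ * q.1.1, hmem q.1 q.2⟩ : ptStab G u)) ?_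
        rintro ⟨⟨y, x⟩, hq⟩ ⟨⟨y', x'⟩, hq'⟩ e
        obtain rfl : y = y' := mul_left_cancel (congrArg Subtype.val e)
        obtain rfl : x = x' := (hfact _ hq).1.trans (hfact _ hq').1.symm
        rfl
      · rw [Finset.not_nonempty_iff_eq_empty.mp hne]
        exact Nat.zero_le _
  -- at most two orbits on the remaining points
  have hbound : Fintype.card α - k ≤ 2 * h := by
    rw [Finset.offDiag_card, hWc] at hlow hup
    set D := Fintype.card α - k with hD
    rw [show (D + 2) * (D + 2) - (D + 2) = (D + 2) * (D + 1) by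
      rw [show D + 1 = D + 2 - 1 from rfl, Nat.mul_sub, mul_one]] at hlow hup
    rw [show D + 2 - 2 = D from rfl] at hup
    by_contra hc
    push Not at hc
    have hpos : 0 < L.card := by
      by_contra h0
      have : (D + 2) * (D + 1) = 0 := by omega
      simp at this
    have h1 := Nat.mul_le_mul_left h hlow
    have h2 : L.card * (2 * h) < L.card * D := Nat.mul_lt_mul_of_pos_left hc hpos
    nlinarith
  exact hbound

include hG hfree in
/-- Odd stabilisers and `n - k` even: every tuple has all even permutations induced. -/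
theorem alternating_le_of_even_diff (hk : 4 ≤ k)
    (hodd : ∀ u : Fin k ↪ α, Odd (Nat.card (ptStab G u)))
    (hpar : Even (Fintype.card α - k)) (t : Fin (k + 1) ↪ α) :
    alternatingGroup (Fin (k + 1)) ≤ induced G t := by
  classical
  have hkn : k + 1 ≤ Fintype.card α := by
    simpa using Fintype.card_le_of_embedding t
  set v : Fin k ↪ α := (Fin.castSuccEmb).trans t with hv
  set h := Nat.card (ptStab G v) with hh
  have hbound : Fintype.card α - k ≤ 2 * h := sub_le_two_mul_of_even_diff hG hfree hk hodd hpar v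
  refine alternating_le_of_three _ fun σ τ ρ => ?_
  have hg : ∀ σ : Equiv.Perm (Fin (k + 1)), ∃ g ∈ G, (∀ s, g (t (σ (Fin.castSucc s))) = v s) ∧
      g (t (σ (Fin.last k))) ∉ Set.range v := by
    intro σ
    obtain ⟨g, hg, hgs⟩ := exists_map hG ((Fin.castSuccEmb).trans (σ.toEmbedding.trans t)) v
    refine ⟨g, hg, hgs, fun ⟨s, e⟩ => ?_⟩
    rw [← hgs s] at e
    exact (Fin.castSucc_lt_last s).ne (σ.injective (t.injective (g.injective e)))
  choose g hgG hgs hgl using hg
  have key : ∀ σ τ, (∃ x ∈ ptStab G v, x (g σ (t (σ (Fin.last k)))) = g τ (t (τ (Fin.last k)))) →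
      τ * σ⁻¹ ∈ induced G t := by
    rintro σ τ ⟨x, hx, hxp⟩
    refine mem_induced.mpr ⟨(g τ)⁻¹ * x * g σ, mul_mem (mul_mem (inv_mem (hgG τ)) hx.1) (hgG σ), fun s => ?_⟩
    obtain ⟨r, rfl⟩ := σ.surjective s
    rw [Equiv.Perm.mul_apply τ σ⁻¹, Equiv.Perm.coe_inv σ, Equiv.symm_apply_apply, Equiv.Perm.mul_apply,
      Equiv.Perm.mul_apply, Equiv.Perm.inv_eq_iff_eq]
    induction r using Fin.lastCases with
    | last => exact hxp
    | cast r => rw [hgs, hgs]; exact (mem_ptStab.mp hx).2 r
  by_contra hall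
  push Not at hall
  obtain ⟨h1, h2, h3⟩ := hall
  let φ : Fin 3 × ptStab G v → {x : α // x ∉ Set.range v} := fun q =>
    ⟨(q.2 : Equiv.Perm α) (g (![σ, τ, ρ] q.1) (t (![σ, τ, ρ] q.1 (Fin.last k)))), fun ⟨s, e⟩ => by
      have e' : (q.2 : Equiv.Perm α) (v s) = (q.2 : Equiv.Perm α) _ := ((mem_ptStab.mp q.2.2).2 s).trans e
      exact hgl _ ⟨s, (q.2 : Equiv.Perm α).injective e'⟩⟩
  have hφ : Function.Injective φ := by
    rintro ⟨a, x⟩ ⟨b, y⟩ e
    have e' : (x : Equiv.Perm α) (g (![σ, τ, ρ] a) (t (![σ, τ, ρ] a (Fin.last k)))) =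
        (y : Equiv.Perm α) (g (![σ, τ, ρ] b) (t (![σ, τ, ρ] b (Fin.last k)))) := congrArg Subtype.val e
    have hm : ![σ, τ, ρ] b * (![σ, τ, ρ] a)⁻¹ ∈ induced G t := key _ _
      ⟨(y : Equiv.Perm α)⁻¹ * x, mul_mem (inv_mem y.2) x.2, by
        rw [Equiv.Perm.mul_apply, e', Equiv.Perm.coe_inv, Equiv.symm_apply_apply]⟩
    have hm' : ![σ, τ, ρ] a * (![σ, τ, ρ] b)⁻¹ ∈ induced G t := by
      simpa using inv_mem hm
    obtain rfl : a = b := by
      fin_cases a <;> fin_cases b <;>
        first
          | rfl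
          | exact absurd (by simpa using hm) h1
          | exact absurd (by simpa using hm') h1
          | exact absurd (by simpa using hm) h2
          | exact absurd (by simpa using hm') h2
          | exact absurd (by simpa using hm) h3
          | exact absurd (by simpa using hm') h3
    have hxy : x = y := by
      refine Subtype.ext (inv_mul_eq_one.mp (eq_one_of_fix hfree (mul_mem (inv_mem y.2.1) x.2.1) v
        (fun s => ?_) (hgl (![σ, τ, ρ] a)) ?_)).symm
      · rw [Equiv.Perm.mul_apply, (mem_ptStab.mp x.2).2, Equiv.Perm.inv_eq_iff_eq, (mem_ptStab.mp y.2).2]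
      · rw [Equiv.Perm.mul_apply, e', Equiv.Perm.coe_inv, Equiv.symm_apply_apply]
    rw [hxy]
  have hcard := Nat.card_le_card_of_injective φ hφ
  rw [Nat.card_prod, Nat.card_fin, ← hh, Nat.card_eq_fintype_card (α := {x : α // x ∉ Set.range v}),
    Fintype.card_subtype_compl] at hcard
  have hr : Fintype.card {x : α // x ∈ Set.range v} = k := by
    rw [← Nat.card_eq_fintype_card]
    exact (Nat.card_range_of_injective v.injective).trans (Nat.card_fin k)
  rw [hr] at hcard
  have : 0 < h := Nat.card_pos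
  omega

include hG hfree in
/-- The semiregular case. -/
theorem exists_alternating_of_semiregular (hk : 4 ≤ k) (hkn : k < Fintype.card α) :
    ∃ t : Fin (k + 1) ↪ α, alternatingGroup (Fin (k + 1)) ≤ induced G t := by
  obtain ⟨t⟩ : Nonempty (Fin (k + 1) ↪ α) :=
    Function.Embedding.nonempty_of_card_le (by rw [Fintype.card_fin]; omega)
  by_cases heven : ∃ u : Fin k ↪ α, 2 ∣ Nat.card (ptStab G u)
  · obtain ⟨u, hu⟩ := heven
    exact ⟨t, by rw [induced_eq_top_of_even hG hfree (by omega) u hu t]; exact le_top⟩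
  push Not at heven
  have hodd : ∀ u : Fin k ↪ α, Odd (Nat.card (ptStab G u)) := fun u =>
    Nat.not_even_iff_odd.mp fun e => heven u (even_iff_two_dvd.mp e)
  rcases Nat.even_or_odd (Fintype.card α - k) with hpar | hpar
  · exact ⟨t, alternating_le_of_even_diff hG hfree hk hodd hpar t⟩
  · obtain ⟨t, ht⟩ := exists_top_of_odd hG hfree hk hkn hodd hpar
    exact ⟨t, by rw [ht]; exact le_top⟩

end Semi

end CfsgLib.Perm.SetStab
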